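import Groth.Agent.DCat.DCompleteAdic
import Groth.Agent.CAlgH.CompletionFlat
import Mathlib.RingTheory.Filtration
import Mathlib.RingTheory.AdicCompletion.AsTensorProduct
import Mathlib.RingTheory.AdicCompletion.Completeness
import Mathlib.RingTheory.Flat.Stability

/-!
Algebra for completing `M ⊗ N` with `M` finite and `N` flat: flatness of `N^`, Artin–Rees after tensoring with a flat
module, separatedness of `N^ ⊗ M`.
-/

set_option autoImplicit false

universe u

open TensorProduct

namespace Groth.Agent.CohDer1.ComplFin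

variable {A : Type u} [CommRing A] [IsNoetherianRing A] (I : Ideal A)

theorem flat_completion (N : Type u) [AddCommGroup N] [Module A N] [Module.Flat A N] :
    Module.Flat A (AdicCompletion I N) := by
  haveI : Module.Flat (A ⧸ I) (N ⧸ (I • ⊤ : Submodule A N)) := by
    haveI : Module.Flat (A ⧸ I) ((A ⧸ I) ⊗[A] N) := inferInstance
    exact Module.Flat.of_linearEquiv
      ((TensorProduct.quotTensorEquivQuotSMul N I).extendScalarsOfSurjective (S := A ⧸ I)
        Ideal.Quotient.mk_surjective).symm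
  have hT : Function.Injective (TensorProduct.lift ((LinearMap.lsmul A N).comp (Submodule.subtype I))) := by
    rw [show TensorProduct.lift ((LinearMap.lsmul A N).comp (Submodule.subtype I)) =
      (TensorProduct.lid A N).toLinearMap ∘ₗ I.subtype.rTensor N from TensorProduct.ext' fun a b => by simp]
    exact (TensorProduct.lid A N).injective.comp
      (Module.Flat.rTensor_preserves_injective_linearMap _ Subtype.val_injective)
  haveI := CAlgH.CompletionFlat.flat_adicCompletion I N (IsNoetherian.noetherian I) hT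
  haveI : Module.Flat A (AdicCompletion I A) := AdicCompletion.flat_of_isNoetherian I
  exact Module.Flat.trans A (AdicCompletion I A) (AdicCompletion I N)

theorem tmul_mem_smul {T M : Type u} [AddCommGroup T] [Module A T] [AddCommGroup M] [Module A M] {J : Ideal A}
    (t : T) {x : M} (hx : x ∈ (J • ⊤ : Submodule A M)) : t ⊗ₜ[A] x ∈ (J • ⊤ : Submodule A (T ⊗[A] M)) := by
  have := Submodule.mem_map_of_mem (f := TensorProduct.mk A T M t) hx
  rw [Submodule.map_smul''] at this
  exact Submodule.smul_mono le_rfl le_top this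

theorem eq_zero_lTensor {T M : Type u} [AddCommGroup T] [Module A T] [AddCommGroup M] [Module A M] (J : Ideal A)
    {x : T ⊗[A] M} (hx : x ∈ (J • ⊤ : Submodule A (T ⊗[A] M))) :
    (Submodule.mkQ (J • ⊤ : Submodule A M)).lTensor T x = 0 := by
  refine Submodule.smul_induction_on hx (fun a ha y _ => ?_) fun a b ha hb => by rw [map_add, ha, hb, add_zero]
  have h : ((Submodule.mkQ (J • ⊤ : Submodule A M)).lTensor T) ∘ₗ (a • LinearMap.id) = 0 :=
    TensorProduct.ext' fun t m => by
      show (Submodule.mkQ (J • ⊤ : Submodule A M)).lTensor T (a • t ⊗ₜ[A] m) = 0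
      rw [← TensorProduct.tmul_smul, LinearMap.lTensor_tmul, Submodule.mkQ_apply,
        (Submodule.Quotient.mk_eq_zero _).2 (Submodule.smul_mem_smul ha Submodule.mem_top), TensorProduct.tmul_zero]
  exact LinearMap.congr_fun h y

/-- Artin–Rees after tensoring with a flat module. -/
theorem artin_rees_flat {T F : Type u} [AddCommGroup T] [Module A T] [Module.Flat A T] [AddCommGroup F] [Module A F]
    [Module.Finite A F] (M' : Submodule A F) :
    ∃ k : ℕ, ∀ (n : ℕ) (q : T ⊗[A] M'), M'.subtype.lTensor T q ∈ (I ^ (n + k) • ⊤ : Submodule A (T ⊗[A] F)) →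
      q ∈ (I ^ n • ⊤ : Submodule A (T ⊗[A] M')) := by
  obtain ⟨k, hk⟩ := I.exists_pow_inf_eq_pow_smul M'
  refine ⟨k, fun n q hq => ?_⟩
  let π := (Submodule.mkQ (I ^ (n + k) • ⊤ : Submodule A F)) ∘ₗ M'.subtype
  have he : Function.Exact (LinearMap.ker π).subtype π := LinearMap.exact_subtype_ker_map π
  have h0 : π.lTensor T q = 0 := by
    rw [LinearMap.lTensor_comp, LinearMap.comp_apply]
    exact eq_zero_lTensor _ hq
  obtain ⟨d, rfl⟩ := ((Module.Flat.lTensor_exact T he) q).1 h0
  clear hq h0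
  induction d using TensorProduct.induction_on with
  | zero => simp
  | add a b ha hb => rw [map_add]; exact add_mem ha hb
  | tmul t m =>
    rw [LinearMap.lTensor_tmul]
    refine tmul_mem_smul t ?_
    have h1 : (m.1.1 : F) ∈ (I ^ (n + k) • ⊤ : Submodule A F) ⊓ M' :=
      ⟨(Submodule.Quotient.mk_eq_zero _).1 m.2, m.1.2⟩
    rw [hk (n + k) (Nat.le_add_left k n), Nat.add_sub_cancel] at h1
    have h2 : (m.1.1 : F) ∈ Submodule.map M'.subtype (I ^ n • ⊤ : Submodule A M') := by
      rw [Submodule.map_smul'', Submodule.map_top, Submodule.range_subtype]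
      exact Submodule.smul_mono le_rfl inf_le_right h1
    obtain ⟨z, hz, hzm⟩ := h2
    rwa [show (LinearMap.ker π).subtype m = z from (Subtype.ext hzm).symm]

/-- `T ⊗ M` is separated. -/
theorem separated_tensor {T : Type u} [AddCommGroup T] [Module A T] [Module.Flat A T]
    (hT : ∀ x : T, (∀ n, x ∈ (I ^ n • ⊤ : Submodule A T)) → x = 0)
    (hS : ∀ (M' : Type u) [AddCommGroup M'] [Module A M'] [Module.Finite A M'],
      Function.Surjective (AdicCompletion.of I (T ⊗[A] M')))
    (M : Type u) [AddCommGroup M] [Module A M] [Module.Finite A M] (y : T ⊗[A] M)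
    (hy : ∀ n, y ∈ (I ^ n • ⊤ : Submodule A (T ⊗[A] M))) : y = 0 := by
  obtain ⟨b, p, hp⟩ := Module.Finite.exists_fin' A M
  let K := LinearMap.ker p
  have hex := lTensor_exact T (LinearMap.exact_subtype_ker_map p) hp
  have hsurj : Function.Surjective (p.lTensor T) := LinearMap.lTensor_surjective T hp
  have hF : ∀ z : T ⊗[A] (Fin b → A), (∀ n, z ∈ (I ^ n • ⊤ : Submodule A (T ⊗[A] (Fin b → A)))) → z = 0 := by
    intro z hz
    apply (TensorProduct.piScalarRight A A T (Fin b)).injective
    rw [map_zero]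
    funext i
    refine hT _ fun n => ?_
    have := Submodule.mem_map_of_mem
      (f := (LinearMap.proj i : (Fin b → T) →ₗ[A] T) ∘ₗ (TensorProduct.piScalarRight A A T (Fin b)).toLinearMap) (hz n)
    rw [Submodule.map_smul''] at this
    exact Submodule.smul_mono le_rfl le_top this
  obtain ⟨x, rfl⟩ := hsurj y
  obtain ⟨k, hk⟩ := artin_rees_flat I (T := T) K
  have hpn : ∀ n, ∃ q : T ⊗[A] K, x - K.subtype.lTensor T q ∈ (I ^ n • ⊤ : Submodule A (T ⊗[A] (Fin b → A))) := by
    intro n
    have h := hy n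
    rw [← LinearMap.range_eq_top.2 hsurj, ← Submodule.map_top, ← Submodule.map_smul''] at h
    obtain ⟨e, he, hex'⟩ := h
    obtain ⟨q, hq⟩ := (hex (x - e)).1 (by rw [map_sub, hex', sub_self])
    exact ⟨q, by rw [hq, sub_sub_cancel]; exact he⟩
  choose q hq using hpn
  have hc : ∀ n, q (n + k) ≡ q (n + 1 + k) [SMOD (I ^ n • ⊤ : Submodule A (T ⊗[A] K))] := fun n => by
    rw [SModEq.sub_mem]
    refine hk n _ ?_
    rw [map_sub, show K.subtype.lTensor T (q (n + k)) - K.subtype.lTensor T (q (n + 1 + k)) =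
      (x - K.subtype.lTensor T (q (n + 1 + k))) - (x - K.subtype.lTensor T (q (n + k))) from by abel]
    exact sub_mem (Submodule.smul_mono (Ideal.pow_le_pow_right (by omega)) le_rfl (hq (n + 1 + k))) (hq (n + k))
  obtain ⟨l, hl⟩ := hS K (AdicCompletion.mk I _ (AdicCompletion.AdicCauchySequence.mk I _ (fun n => q (n + k)) hc))
  have hlim : ∀ n, l - q (n + k) ∈ (I ^ n • ⊤ : Submodule A (T ⊗[A] K)) := fun n => by
    have := congrArg (fun z => z.val n) hl
    exact (Submodule.Quotient.eq _).1 this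
  have hx : x = K.subtype.lTensor T l := by
    rw [← sub_eq_zero]
    refine hF _ fun n => ?_
    rw [show x - K.subtype.lTensor T l =
      (x - K.subtype.lTensor T (q (n + k))) - K.subtype.lTensor T (l - q (n + k)) from by rw [map_sub]; abel]
    refine sub_mem (Submodule.smul_mono (Ideal.pow_le_pow_right (by omega)) le_rfl (hq (n + k))) ?_
    have := Submodule.mem_map_of_mem (f := K.subtype.lTensor T) (hlim n)
    rw [Submodule.map_smul''] at this
    exact Submodule.smul_mono le_rfl le_top this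
  exact (hex x).2 ⟨l, hx.symm⟩

/-- `T = N^` reduces to `N` modulo powers of `I`. -/
theorem completion_mod (N : Type u) [AddCommGroup N] [Module A N] (n : ℕ) (z : AdicCompletion I N) :
    ∃ x : N, z - AdicCompletion.of I N x ∈ (I ^ n • ⊤ : Submodule A (AdicCompletion I N)) := by
  obtain ⟨x, hx⟩ := Submodule.Quotient.mk_surjective _ (z.val n)
  refine ⟨x, ?_⟩
  rw [AdicCompletion.pow_smul_top_eq_ker_eval (IsNoetherian.noetherian I), LinearMap.mem_ker, map_sub, sub_eq_zero]
  exact hx.symm

theorem completion_separated (N : Type u) [AddCommGroup N] [Module A N] (z : AdicCompletion I N)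
    (hz : ∀ n, z ∈ (I ^ n • ⊤ : Submodule A (AdicCompletion I N))) : z = 0 :=
  AdicCompletion.ext fun n => by
    have h := hz n
    rw [AdicCompletion.pow_smul_top_eq_ker_eval (IsNoetherian.noetherian I), LinearMap.mem_ker] at h
    exact h

variable (N : Type u) [AddCommGroup N] [Module A N] (M : Type u) [AddCommGroup M] [Module A M]

/-- The map `N ⊗ M → N^ ⊗ M`. -/
noncomputable def ofT : N ⊗[A] M →ₗ[A] AdicCompletion I N ⊗[A] M := (AdicCompletion.of I N).rTensor M

theorem ofT_surj_mod (n : ℕ) (y : AdicCompletion I N ⊗[A] M) :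
    ∃ x, y - ofT I N M x ∈ (I ^ n • ⊤ : Submodule A (AdicCompletion I N ⊗[A] M)) := by
  induction y using TensorProduct.induction_on with
  | zero => exact ⟨0, by simp⟩
  | add a b ha hb =>
    obtain ⟨x, hx⟩ := ha
    obtain ⟨x', hx'⟩ := hb
    exact ⟨x + x', by rw [map_add, add_sub_add_comm]; exact add_mem hx hx'⟩
  | tmul z m =>
    obtain ⟨x, hx⟩ := completion_mod I N n z
    refine ⟨x ⊗ₜ[A] m, ?_⟩
    rw [ofT, LinearMap.rTensor_tmul, ← TensorProduct.sub_tmul]
    have := Submodule.mem_map_of_mem (f := (TensorProduct.mk A _ M).flip m) hx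
    rw [Submodule.map_smul''] at this
    exact Submodule.smul_mono le_rfl le_top this

theorem ofT_inj_mod (n : ℕ) (x : N ⊗[A] M)
    (hx : ofT I N M x ∈ (I ^ n • ⊤ : Submodule A (AdicCompletion I N ⊗[A] M))) :
    x ∈ (I ^ n • ⊤ : Submodule A (N ⊗[A] M)) := by
  let P := (I ^ n • ⊤ : Submodule A (N ⊗[A] M))
  let b : (N ⧸ (I ^ n • ⊤ : Submodule A N)) →ₗ[A] M →ₗ[A] (N ⊗[A] M) ⧸ P :=
    Submodule.liftQ _ ((LinearMap.compr₂ (TensorProduct.mk A N M) P.mkQ)) fun a ha => LinearMap.ext fun m => by
      show P.mkQ (a ⊗ₜ[A] m) = 0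
      refine (Submodule.Quotient.mk_eq_zero _).2 ?_
      have := Submodule.mem_map_of_mem (f := (TensorProduct.mk A N M).flip m) ha
      rw [Submodule.map_smul''] at this
      exact Submodule.smul_mono le_rfl le_top this
  let g : AdicCompletion I N ⊗[A] M →ₗ[A] (N ⊗[A] M) ⧸ P :=
    (TensorProduct.lift b) ∘ₗ (AdicCompletion.eval I N n).rTensor M
  have hg : g ∘ₗ ofT I N M = P.mkQ := TensorProduct.ext' fun a m => rfl
  refine (Submodule.Quotient.mk_eq_zero P).1 ?_
  show P.mkQ x = 0
  rw [← hg, LinearMap.comp_apply]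
  have := Submodule.mem_map_of_mem (f := g) hx
  rw [Submodule.map_smul''] at this
  refine (Submodule.mem_bot A).1 (show g (ofT I N M x) ∈ (⊥ : Submodule A _) from ?_)
  refine (?_ : (I ^ n • ⊤ : Submodule A ((N ⊗[A] M) ⧸ P)) ≤ ⊥) (Submodule.smul_mono le_rfl le_top this)
  refine Submodule.smul_le.2 fun a ha w _ => ?_
  obtain ⟨w, rfl⟩ := Submodule.Quotient.mk_surjective _ w
  rw [Submodule.mem_bot]
  exact (Submodule.Quotient.mk_eq_zero _).2 (Submodule.smul_mem_smul ha Submodule.mem_top)

omit [IsNoetherianRing A] in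
theorem bijective_map_of_mod {X Y : Type u} [AddCommGroup X] [Module A X] [AddCommGroup Y] [Module A Y]
    (f : X →ₗ[A] Y) (hs : ∀ n y, ∃ x, y - f x ∈ (I ^ n • ⊤ : Submodule A Y))
    (hi : ∀ n x, f x ∈ (I ^ n • ⊤ : Submodule A Y) → x ∈ (I ^ n • ⊤ : Submodule A X)) :
    Function.Bijective (AdicCompletion.map I f) := by
  let Φ : ∀ n, (X ⧸ (I ^ n • ⊤ : Submodule A X)) →ₗ[A] Y ⧸ (I ^ n • ⊤ : Submodule A Y) := fun n =>
    Submodule.mapQ _ _ f (Submodule.smul_top_le_comap_smul_top _ f)
  have hb : ∀ n, Function.Bijective (Φ n) := fun n => by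
    refine ⟨(injective_iff_map_eq_zero _).2 fun z hz => ?_, fun w => ?_⟩
    · obtain ⟨x, rfl⟩ := Submodule.Quotient.mk_surjective _ z
      exact (Submodule.Quotient.mk_eq_zero _).2 (hi n x ((Submodule.Quotient.mk_eq_zero _).1 hz))
    · obtain ⟨y, rfl⟩ := Submodule.Quotient.mk_surjective _ w
      obtain ⟨x, hx⟩ := hs n y
      exact ⟨Submodule.Quotient.mk x, ((Submodule.Quotient.eq _).2 hx).symm⟩
  have hv : ∀ (z : AdicCompletion I X) n, (AdicCompletion.map I f z).val n = Φ n (z.val n) := fun z n =>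
    AdicCompletion.map_val_apply I f z
  refine ⟨fun z z' h => AdicCompletion.ext fun n => (hb n).1 (by rw [← hv, ← hv, h]), fun w => ?_⟩
  choose c hc using fun n => (hb n).2 (w.val n)
  refine ⟨⟨c, fun {m n} hmn => (hb m).1 ?_⟩, AdicCompletion.ext fun n => (hv _ n).trans (hc n)⟩
  refine Eq.trans ?_ (hc m).symm
  refine Eq.trans ?_ ((w.2 hmn))
  rw [← hc n]
  obtain ⟨x, hx⟩ := Submodule.Quotient.mk_surjective _ (c n)
  rw [← hx]
  rfl

theorem bijective_mapQ_of (N : Type u) [AddCommGroup N] [Module A N] :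
    Function.Bijective (Submodule.mapQ (I • ⊤ : Submodule A N) (I • ⊤ : Submodule A (AdicCompletion I N))
        (AdicCompletion.of I N) (Submodule.smul_top_le_comap_smul_top _ _)) := by
  refine ⟨(injective_iff_map_eq_zero _).2 fun z hz => ?_, fun w => ?_⟩
  · obtain ⟨x, rfl⟩ := Submodule.Quotient.mk_surjective _ z
    have h : AdicCompletion.of I N x ∈ (I ^ 1 • ⊤ : Submodule A (AdicCompletion I N)) :=
      (congrArg (fun J : Ideal A => AdicCompletion.of I N x ∈ (J • ⊤ : Submodule A (AdicCompletion I N))) (pow_one I)).mpr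
        ((Submodule.Quotient.mk_eq_zero _).1 hz)
    rw [AdicCompletion.pow_smul_top_eq_ker_eval (IsNoetherian.noetherian I), LinearMap.mem_ker] at h
    have h' : x ∈ (I ^ 1 • ⊤ : Submodule A N) := (Submodule.Quotient.mk_eq_zero _).1 h
    rw [pow_one] at h'
    exact (Submodule.Quotient.mk_eq_zero _).2 h'
  · obtain ⟨y, rfl⟩ := Submodule.Quotient.mk_surjective _ w
    obtain ⟨x, hx⟩ := completion_mod I N 1 y
    rw [pow_one] at hx
    exact ⟨Submodule.Quotient.mk x, ((Submodule.Quotient.eq _).2 hx).symm⟩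

theorem bijective_of_rTensor_quot (N : Type u) [AddCommGroup N] [Module A N] :
    Function.Bijective ((AdicCompletion.of I N).rTensor (A ⧸ I)) := by
  let e := TensorProduct.tensorQuotEquivQuotSMul N I
  let e' := TensorProduct.tensorQuotEquivQuotSMul (AdicCompletion I N) I
  let Q := Submodule.mapQ (I • ⊤ : Submodule A N) (I • ⊤ : Submodule A (AdicCompletion I N))
    (AdicCompletion.of I N) (Submodule.smul_top_le_comap_smul_top _ _)
  have h : e'.toLinearMap ∘ₗ (AdicCompletion.of I N).rTensor (A ⧸ I) = Q ∘ₗ e.toLinearMap := by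
    refine TensorProduct.ext' fun x r => ?_
    obtain ⟨r, rfl⟩ := Ideal.Quotient.mk_surjective r
    simp [e, e', Q]
  have hb : Function.Bijective (e' ∘ (AdicCompletion.of I N).rTensor (A ⧸ I)) := by
    rw [show (e' : _ → _) ∘ (AdicCompletion.of I N).rTensor (A ⧸ I) = Q ∘ e from funext (LinearMap.congr_fun h)]
    exact (bijective_mapQ_of I N).comp e.bijective
  exact (Function.Bijective.of_comp_iff' e'.bijective _).1 hb

end Groth.Agent.CohDer1.ComplFin
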