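import Groth.Agent.CohDer1.ComplFin.TensorCx
import Groth.Agent.S7055
import Groth.Agent.CohDer1.ComplFin.FlatAlg

/-!
The derived completion of `M ⊗ N`, `M` finite and `N` flat, is its adic completion.
-/

set_option autoImplicit false
set_option backward.isDefEq.respectTransparency false
set_option backward.defeqAttrib.useBackward true
set_option linter.style.haveILetI false

universe u

open CategoryTheory CategoryTheory.Limits CategoryTheory.Pretriangulated MonoidalCategory HomologicalComplex

attribute [local instance] HasDerivedCategory.standard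

namespace Groth.Agent.CohDer1.ComplFin

open Groth.Agent.DCat Groth.Agent.DCat.DC Groth.Agent.CAlgH3.RGam Groth.Agent.CAlgH3.RGam.Lam

variable {A : Type u} [CommRing A] [IsNoetherianRing A] (I : Ideal A) [DRing.HasDerivedCompletion I]

/-- An object killed by `⊗^L A/I` has zero completion. -/
theorem cp_zero_of_ltensor [DRing.HasLTensor A (ModuleCat.of A (A ⧸ I))] (W : Dual.D A) (b : ℤ)
    (hW : ∀ i : ℤ, b < i → Subsingleton (Dual.HD A W i))
    (h : IsZero ((DRing.LTensor A (ModuleCat.of A (A ⧸ I))).obj W)) : IsZero (cp I W) := by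
  have hc := isCompl_ltensor I (A ⧸ I) W b hW
  have hz : IsZero ((DRing.LTensor A (ModuleCat.of A (A ⧸ I))).obj (cp I W)) :=
    (IsZero.iff_id_eq_zero _).2 ((hc.2 _ hc.1).1 (h.eq_of_src _ _))
  exact Groth.Agent.S7055.result I (IsNoetherian.noetherian I) (cp I W) (isCompl_toDerivedCompletion I W).1 hz

/-- Completion of a flat module. -/
theorem isCompl_flat (N : ModuleCat.{u} A) [Module.Flat A N] :
    IsCompl I ((DerivedCategory.singleFunctor (ModuleCat.{u} A) 0).map ((ofN I).app N)) := by
  haveI := hasLTensor (ModuleCat.of A (A ⧸ I))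
  let MQ := ModuleCat.of A (A ⧸ I)
  let T := (Lam I).obj N
  haveI : Module.Flat A T := flat_completion I N
  let φ := (sgl A).map ((ofN I).app N)
  have hsf : ∀ X : ModuleCat.{u} A, Module.Flat A X → DRing.TermwiseFlat ((sgl A).obj X) := fun X hX n => by
    by_cases hn : n = 0
    · subst hn
      exact Module.Flat.of_linearEquiv (singleObjXSelf (ComplexShape.up ℤ) 0 X).toLinearEquiv
    · haveI : Subsingleton (((sgl A).obj X).X n) :=
        ModuleCat.subsingleton_of_isZero (isZero_single_obj_X (ComplexShape.up ℤ) 0 X n hn)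
      infer_instance
  have hsb : ∀ X : ModuleCat.{u} A, DRing.VanishesAbove ((sgl A).obj X) 0 := fun X n hn =>
    isZero_single_obj_X (ComplexShape.up ℤ) 0 X n (by omega)
  let C := CochainComplex.mappingCone φ
  have hCb : DRing.VanishesAbove C 0 := fun n hn =>
    IsZero.of_iso ((biprod_isZero_iff _ _).2 ⟨hsb N (n + 1) (by omega), hsb T n hn⟩)
      (HomologicalComplex.homotopyCofiber.XIsoBiprod φ n (n + 1) rfl)
  have hCk := isKFlatFor_of_vanishesAbove C 0 hCb (flat_cone φ (hsf N inferInstance) (hsf T inferInstance))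
  let G := (tensorRight MQ).mapHomologicalComplex (ComplexShape.up ℤ)
  have hb := bijective_of_rTensor_quot I N
  haveI : ∀ n, IsIso ((G.map φ).f n) := fun n => by
    by_cases hn : n = 0
    · subst hn
      haveI : IsIso ((tensorRight MQ).map ((ofN I).app N)) := (ConcreteCategory.isIso_iff_bijective _).2 hb
      show IsIso ((tensorRight MQ).map (((sgl A).map ((ofN I).app N)).f 0))
      rw [single_map_f_self, Functor.map_comp, Functor.map_comp]
      infer_instance
    · exact isIso_of_source_target_iso_zero _ ((tensorRight MQ).map_isZero (isZero_single_obj_X _ 0 N n hn)).isoZero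
        ((tensorRight MQ).map_isZero (isZero_single_obj_X _ 0 T n hn)).isoZero
  haveI := HomologicalComplex.Hom.isIso_of_components (G.map φ)
  have hz : IsZero ((DRing.LTensor A MQ).obj (DRing.toD C)) := by
    refine IsZero.of_iso ?_ (ltensorIso MQ hCk ≪≫ DerivedCategory.Q.mapIso
      (CochainComplex.mappingCone.mapHomologicalComplexIso φ (tensorRight MQ)))
    exact (Triangle.isZero₃_iff_isIso₁ _ (DerivedCategory.mappingCone_triangle_distinguished (G.map φ))).2
      (inferInstanceAs (IsIso (DerivedCategory.Q.map (G.map φ))))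
  have hc0 := cp_zero_of_ltensor I (DRing.toD C) 0 (hd_top hCb) hz
  have hci : CIso I (DerivedCategory.Q.map φ) :=
    cIso_of_cp_zero I (DerivedCategory.mappingCone_triangle_distinguished φ)
      (fun i => ModuleCat.subsingleton_of_isZero ((HF A i).map_isZero hc0))
  let ν := (SingleFunctors.evaluation _ _ 0).mapIso (DerivedCategory.singleFunctorsPostcompQIso (ModuleCat.{u} A))
  refine ⟨(isDerivedComplete_inD_iff _).2 (modDC_Lam N), ?_⟩
  refine CIso.of_comp_right (cIso_of_isIso (ν.hom.app T)) ?_
  erw [ν.hom.naturality]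
  exact (cIso_of_isIso _).comp hci

/-- `(N ⊗ M)[0] → (N^ ⊗ M)[0]` is a completion. -/
theorem isCompl_single_tensor (N : ModuleCat.{u} A) [Module.Flat A N] (M : ModuleCat.{u} A) [Module.Finite A M] :
    IsCompl I ((DerivedCategory.singleFunctor (ModuleCat.{u} A) 0).map ((ofN I).app N ▷ M)) := by
  haveI := hasLTensor M
  haveI : Module.Flat A ((Lam I).obj N) := flat_completion I N
  let q := DRing.toDerivedCompletion I (Dual.inD A N)
  obtain ⟨e, he⟩ := (isCompl_toDerivedCompletion I (Dual.inD A N)).exists_iso (isCompl_flat I N)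
  have h0 : IsCompl I ((DRing.LTensor A M).map ((DerivedCategory.singleFunctor (ModuleCat.{u} A) 0).map ((ofN I).app N))) := by
    have hc := isCompl_ltensor I M (Dual.inD A N) 0
      (fun i hi => subsingleton_hdInD N (by omega))
    rw [← he, Functor.map_comp]
    exact ⟨isDerivedComplete_of_iso ((DRing.LTensor A M).mapIso e) hc.1,
      CIso.comp (fun L hL => hc.2 L hL) (cIso_of_isIso _)⟩
  let ν := (SingleFunctors.evaluation _ _ 0).mapIso (DerivedCategory.singleFunctorsPostcompQIso (ModuleCat.{u} A))
  have hk : ∀ X : ModuleCat.{u} A, Module.Flat A X → IsKFlatFor (modT A) ((sgl A).obj X) := fun X hX =>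
    isKFlatFor_of_vanishesAbove _ 0 (fun n hn => isZero_single_obj_X (ComplexShape.up ℤ) 0 X n (by omega)) fun n => by
      by_cases hn : n = 0
      · subst hn
        exact Module.Flat.of_linearEquiv (singleObjXSelf (ComplexShape.up ℤ) 0 X).toLinearEquiv
      · haveI : Subsingleton (((sgl A).obj X).X n) :=
          ModuleCat.subsingleton_of_isZero (isZero_single_obj_X (ComplexShape.up ℤ) 0 X n hn)
        infer_instance
  let σ := HomologicalComplex.singleMapHomologicalComplex (tensorRight M) (ComplexShape.up ℤ) 0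
  let j : ∀ X : ModuleCat.{u} A, Module.Flat A X →
      ((DRing.LTensor A M).obj ((DerivedCategory.singleFunctor (ModuleCat.{u} A) 0).obj X) ≅
        (DerivedCategory.singleFunctor (ModuleCat.{u} A) 0).obj (X ⊗ M)) := fun X hX =>
    (DRing.LTensor A M).mapIso (ν.app X) ≪≫ ltensorIso M (hk X hX) ≪≫ DerivedCategory.Q.mapIso (σ.app X) ≪≫
      (ν.app (X ⊗ M)).symm
  have hj : (DRing.LTensor A M).map ((DerivedCategory.singleFunctor (ModuleCat.{u} A) 0).map ((ofN I).app N)) ≫
      (j ((Lam I).obj N) inferInstance).hom =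
      (j N inferInstance).hom ≫ (DerivedCategory.singleFunctor (ModuleCat.{u} A) 0).map ((ofN I).app N ▷ M) := by
    simp only [j, Iso.trans_hom, Functor.mapIso_hom, Iso.app_hom, Iso.symm_hom, Iso.app_inv, Category.assoc]
    rw [← Functor.map_comp_assoc]
    erw [ν.hom.naturality ((ofN I).app N)]
    rw [Functor.map_comp_assoc]
    congr 1
    erw [reassoc_of% (ltensorIso_natural M (hk N inferInstance) (hk ((Lam I).obj N) inferInstance)
      ((sgl A).map ((ofN I).app N)))]
    congr 1
    rw [← Functor.map_comp_assoc]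
    erw [σ.hom.naturality ((ofN I).app N)]
    rw [Functor.map_comp_assoc]
    congr 1
    exact ν.inv.naturality ((ofN I).app N ▷ M)
  refine ⟨isDerivedComplete_of_iso (j ((Lam I).obj N) inferInstance) h0.1, ?_⟩
  refine CIso.of_comp_left (cIso_of_isIso (j N inferInstance).hom) ?_
  rw [← hj]
  exact CIso.comp (fun L hL => h0.2 L hL) (cIso_of_isIso _)

/-- The completion of `N ⊗ M` is the adic completion. -/
theorem isCompl_ofN_tensor (N : ModuleCat.{u} A) [Module.Flat A N] (M : ModuleCat.{u} A) [Module.Finite A M] :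
    IsCompl I ((DerivedCategory.singleFunctor (ModuleCat.{u} A) 0).map ((ofN I).app (N ⊗ M))) := by
  have hI : I.FG := IsNoetherian.noetherian I
  have hf := isCompl_single_tensor I N M
  let f := (ofN I).app N ▷ M
  let Y := (Lam I).obj N ⊗ M
  haveI : Module.Flat A (AdicCompletion I N) := flat_completion I N
  have hdc : ∀ (M' : Type u) [AddCommGroup M'] [Module A M'] [Module.Finite A M'],
      Function.Surjective (AdicCompletion.of I (TensorProduct A (AdicCompletion I N) M')) := fun M' _ _ _ =>
    surjective_completion hI ((isDerivedComplete_inD_iff _).1 (isCompl_single_tensor I N (ModuleCat.of A M')).1)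
  haveI : IsIso ((ofN I).app Y) := (ConcreteCategory.isIso_iff_bijective _).2
    ⟨(injective_iff_map_eq_zero (AdicCompletion.of I (TensorProduct A (AdicCompletion I N) M))).2 fun y hy =>
      separated_tensor I (completion_separated I N) hdc M y fun n =>
        (Submodule.Quotient.mk_eq_zero _).1 (congrArg (fun z => z.val n) hy),
      hdc M⟩
  haveI : IsIso ((Lam I).map f) := (ConcreteCategory.isIso_iff_bijective _).2
    (bijective_map_of_mod I (ofT I N M) (ofT_surj_mod I N M) (ofT_inj_mod I N M))
  have e : (ofN I).app (N ⊗ M) = f ≫ (ofN I).app Y ≫ inv ((Lam I).map f) := by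
    rw [← Category.assoc, IsIso.eq_comp_inv]
    exact ((ofN I).naturality f).symm
  refine ⟨(isDerivedComplete_inD_iff _).2 (modDC_Lam _), ?_⟩
  rw [e, Functor.map_comp, Functor.map_comp]
  exact CIso.comp (fun L hL => hf.2 L hL) ((cIso_of_isIso _).comp (cIso_of_isIso _))

theorem completion_tensor (M N : Type u) [AddCommGroup M] [Module A M] [Module.Finite A M] [AddCommGroup N]
    [Module A N] [Module.Flat A N] :
    (∀ i : ℤ, i ≠ 0 → Subsingleton (Dual.HD A (cp I (Dual.inD A (TensorProduct A M N))) i)) ∧
      ∃ e : Dual.HD A (cp I (Dual.inD A (TensorProduct A M N))) 0 ≃ₗ[A] AdicCompletion I (TensorProduct A M N),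
        ∀ x : TensorProduct A M N,
          e ((((DerivedCategory.singleFunctorCompHomologyFunctorIso (ModuleCat.{u} A) 0).inv.app
                (ModuleCat.of A (TensorProduct A M N))) ≫
              (DerivedCategory.homologyFunctor (ModuleCat.{u} A) 0).map
                (DRing.toDerivedCompletion I (Dual.inD A (TensorProduct A M N)))).hom x) =
            AdicCompletion.of I (TensorProduct A M N) x := by
  let X := ModuleCat.of A (TensorProduct A M N)
  let c : X ≅ ModuleCat.of A N ⊗ ModuleCat.of A M := (TensorProduct.comm A M N).toModuleIso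
  let F := DerivedCategory.singleFunctor (ModuleCat.{u} A) 0
  have h := isCompl_ofN_tensor I (ModuleCat.of A N) (ModuleCat.of A M)
  have hX : IsCompl I (F.map ((ofN I).app X)) := by
    have e : (ofN I).app X = c.hom ≫ (ofN I).app _ ≫ (Lam I).map c.inv := by
      rw [← (ofN I).naturality c.inv]
      exact (c.hom_inv_id_assoc _).symm
    refine ⟨(isDerivedComplete_inD_iff _).2 (modDC_Lam _), ?_⟩
    rw [e, Functor.map_comp, Functor.map_comp]
    exact (cIso_of_isIso _).comp (CIso.comp (fun L hL => h.2 L hL) (cIso_of_isIso _))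
  obtain ⟨e₀, he⟩ := (isCompl_toDerivedCompletion I (F.obj X)).exists_iso hX
  refine ⟨fun i hi => ?_, ?_⟩
  · haveI : Subsingleton ((HF A i).obj (F.obj ((Lam I).obj X))) := subsingleton_hdInD _ hi
    exact ((HF A i).mapIso e₀).toLinearEquiv.toEquiv.subsingleton
  let σ := DerivedCategory.singleFunctorCompHomologyFunctorIso (ModuleCat.{u} A) 0
  refine ⟨((HF A 0).mapIso e₀ ≪≫ σ.app _).toLinearEquiv, fun x => ?_⟩
  have hh : (σ.inv.app X ≫ (HF A 0).map (DRing.toDerivedCompletion I (F.obj X))) ≫
      ((HF A 0).mapIso e₀ ≪≫ σ.app _).hom = (ofN I).app X := by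
    simp only [Iso.trans_hom, Functor.mapIso_hom, Iso.app_hom, Category.assoc]
    rw [← Functor.map_comp_assoc, he]
    have hn := σ.hom.naturality ((ofN I).app X)
    dsimp at hn
    erw [hn]
    exact σ.inv_hom_id_app_assoc X _
  exact congrArg (fun φ => φ.hom x) hh

end Groth.Agent.CohDer1.ComplFin
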