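import Groth.Agent.CAlgH3.RGam.CechCompl
import Groth.Agent.DCat.Trunc

/-!
Derived completion of a complex with finite cohomology: on cohomology it is adic completion.
-/

set_option autoImplicit false
set_option backward.isDefEq.respectTransparency false
set_option backward.defeqAttrib.useBackward true

universe u

open CategoryTheory CategoryTheory.Limits CategoryTheory.Pretriangulated DerivedCategory

attribute [local instance] HasDerivedCategory.standard

namespace Groth.Agent.CohDer1.ComplFin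

open Groth.Agent.DCat Groth.Agent.DCat.DC Groth.Agent.CAlgH3.RGam Groth.Agent.CAlgH3.RGam.Lam

variable {A : Type u} [CommRing A] (I : Ideal A) [DRing.HasDerivedCompletion I]

noncomputable abbrev HF (A : Type u) [CommRing A] (n : ℤ) : Dual.D A ⥤ ModuleCat.{u} A :=
  DerivedCategory.homologyFunctor (ModuleCat.{u} A) n

/-- The completed object. -/
noncomputable abbrev cp (K : Dual.D A) : Dual.D A := ((DRing.derivedCompletion I).obj K).obj

/-- The completed map. -/
noncomputable abbrev cm {K L : Dual.D A} (φ : K ⟶ L) : cp I K ⟶ cp I L :=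
  ((DRing.derivedCompletion I).map φ).hom

/-- All cohomology is finite. -/
def Finh (K : Dual.D A) : Prop := ∀ n : ℤ, Module.Finite A (Dual.HD A K n)

theorem exists_cone_iso (T : Triangle (Dual.D A)) (hT : T ∈ distTriang _) :
    ∃ (W : Dual.D A) (v : cp I T.obj₂ ⟶ W) (w : W ⟶ (cp I T.obj₁)⟦(1 : ℤ)⟧),
      Triangle.mk (cm I T.mor₁) v w ∈ distTriang (Dual.D A) ∧ Nonempty (cp I T.obj₃ ≅ W) := by
  obtain ⟨W, v, w, hW⟩ := distinguished_cocone_triangle (cm I T.mor₁)
  obtain ⟨m, hm⟩ := exists_compl_cone hT hW (DRing.toDerivedCompletion I T.obj₁)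
    (DRing.toDerivedCompletion I T.obj₂) (by
      show T.mor₁ ≫ _ = _ ≫ cm I T.mor₁
      exact (DRing.derivedCompletionAdj I).unit.naturality T.mor₁)
    (isCompl_toDerivedCompletion I _) (isCompl_toDerivedCompletion I _)
  obtain ⟨e, -⟩ := (isCompl_toDerivedCompletion I T.obj₃).exists_iso hm
  exact ⟨W, v, w, hW, ⟨e⟩⟩

theorem subsingleton_mid (T : Triangle (Dual.D A)) (hT : T ∈ distTriang _) (n : ℤ)
    (h1 : Subsingleton (Dual.HD A (cp I T.obj₁) n)) (h3 : Subsingleton (Dual.HD A (cp I T.obj₃) n)) :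
    Subsingleton (Dual.HD A (cp I T.obj₂) n) := by
  obtain ⟨W, v, w, hW, ⟨e⟩⟩ := exists_cone_iso I T hT
  refine ModuleCat.subsingleton_of_isZero ((HomologySequence.exact₂ _ hW n).isZero_of_both_zeros
    ((@ModuleCat.isZero_of_subsingleton _ _ ((HF A n).obj (cp I T.obj₁)) h1).eq_of_src _ _) ?_)
  exact ((@ModuleCat.isZero_of_subsingleton _ _ ((HF A n).obj (cp I T.obj₃)) h3).of_iso
    ((HF A n).mapIso e).symm).eq_of_tgt _ _

theorem isIso_cm (T : Triangle (Dual.D A)) (hT : T ∈ distTriang _) (n : ℤ)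
    (h : Subsingleton (Dual.HD A (cp I T.obj₃) (n - 1))) (h' : Subsingleton (Dual.HD A (cp I T.obj₃) n)) :
    IsIso ((HF A n).map (cm I T.mor₁)) := by
  obtain ⟨W, v, w, hW, ⟨e⟩⟩ := exists_cone_iso I T hT
  have := epi_of_cone hW n (((HF A n).mapIso e).toLinearEquiv.symm.toEquiv.subsingleton)
  have := mono_of_cone hW n (((HF A (n - 1)).mapIso e).toLinearEquiv.symm.toEquiv.subsingleton)
  exact isIso_of_mono_of_epi ((HF A n).map (Triangle.mk (cm I T.mor₁) v w).mor₁)

section trunc

local notation "t₀" => DerivedCategory.TStructure.t (C := ModuleCat A)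

variable (K : Dual.D A) (b q : ℤ)

omit [DRing.HasDerivedCompletion I] in
theorem zero_LT (h : b ≤ q) : Subsingleton (Dual.HD A (((t₀).truncLT b).obj K) q) := by
  have : (((t₀).truncLT b).obj K).IsLE (b - 1) := (t₀).isLE_truncLT_obj _ _ _ (by omega)
  exact ModuleCat.subsingleton_of_isZero (isZero_of_isLE _ (b - 1) q (by omega))

omit [DRing.HasDerivedCompletion I] in
theorem zero_GE (h : q < b) : Subsingleton (Dual.HD A (((t₀).truncGE b).obj K) q) := by
  have : (((t₀).truncGE b).obj K).IsGE b := inferInstance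
  exact ModuleCat.subsingleton_of_isZero (isZero_of_isGE _ b q h)

theorem sub_LT (h : Subsingleton (Dual.HD A K q)) : Subsingleton (Dual.HD A (((t₀).truncLT b).obj K) q) :=
  haveI : Subsingleton ((HF A q).obj ((𝟭 (Dual.D A)).obj K)) := h
  ((ModuleCat.mono_iff_injective _).1 (mono_homology_truncLTι K b q)).subsingleton

theorem sub_GE (h : Subsingleton (Dual.HD A K q)) : Subsingleton (Dual.HD A (((t₀).truncGE b).obj K) q) :=
  haveI : Subsingleton ((HF A q).obj ((𝟭 (Dual.D A)).obj K)) := h
  ((ModuleCat.epi_iff_surjective _).1 (epi_homology_truncGEπ K b q)).subsingleton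

variable {K}

theorem finh_LT [IsNoetherianRing A] (h : Finh K) : Finh (((t₀).truncLT b).obj K) := fun q =>
  haveI : Module.Finite A ((HF A q).obj ((𝟭 (Dual.D A)).obj K)) := h q
  Module.Finite.of_injective ((HF A q).map (((t₀).truncLTι b).app K)).hom
    ((ModuleCat.mono_iff_injective _).1 (mono_homology_truncLTι K b q))

theorem finh_GE (h : Finh K) : Finh (((t₀).truncGE b).obj K) := fun q =>
  haveI : Module.Finite A ((HF A q).obj ((𝟭 (Dual.D A)).obj K)) := h q
  Module.Finite.of_surjective ((HF A q).map (((t₀).truncGEπ b).app K)).hom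
    ((ModuleCat.epi_iff_surjective _).1 (epi_homology_truncGEπ K b q))

theorem finh_shift (h : Finh K) (k : ℤ) : Finh (K⟦k⟧) := fun q =>
  haveI : Module.Finite A (((HF A 0).shift (k + q)).obj K) := h (k + q)
  Module.Finite.equiv (((HF A 0).shiftIso k q (k + q) rfl).app K).toLinearEquiv.symm

theorem sub_shift (k : ℤ) (h : Subsingleton (Dual.HD A K (k + q))) : Subsingleton (Dual.HD A (K⟦k⟧) q) :=
  haveI : Subsingleton (((HF A 0).shift (k + q)).obj K) := h
  (((HF A 0).shiftIso k q (k + q) rfl).app K).toLinearEquiv.toEquiv.subsingleton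

end trunc

variable [IsNoetherianRing A]

/-- Completion of a finite module in a single degree. -/
theorem isCompl_single (n : ℤ) (M : ModuleCat.{u} A) [Module.Finite A M] :
    IsCompl I ((singleFunctor (ModuleCat.{u} A) n).map ((ofN I).app M)) := by
  let ν := (SingleFunctors.evaluation _ _ 0).mapIso (DerivedCategory.singleFunctorsPostcompQIso (ModuleCat.{u} A))
  have hM : FinAlg M := finAlg_of_finite M
  have hc0 : CIso I ((singleFunctor (ModuleCat.{u} A) 0).map ((ofN I).app M)) := by
    refine CIso.of_comp_right (cIso_of_isIso (ν.hom.app ((Lam I).obj M))) ?_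
    erw [ν.hom.naturality]
    exact (cIso_of_isIso _).comp (cIso_ofN hM)
  let σ := (DerivedCategory.singleFunctors (ModuleCat.{u} A)).shiftIso (-n) n 0 (by omega)
  refine ⟨isDerivedComplete_of_iso (σ.app ((Lam I).obj M)) (isDerivedComplete_shift
    ((isDerivedComplete_inD_iff _).2 (modDC_Lam M)) (-n)), ?_⟩
  have hs := hc0.shift (-n)
  refine CIso.of_comp_left (cIso_of_isIso (σ.hom.app M)) ?_
  erw [← σ.hom.naturality]
  exact hs.comp (cIso_of_isIso _)

theorem subsingleton_cp_single {i n : ℤ} (hni : i ≠ n) (M : ModuleCat.{u} A) [Module.Finite A M] :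
    Subsingleton (Dual.HD A (cp I ((singleFunctor (ModuleCat.{u} A) n).obj M)) i) := by
  obtain ⟨e, -⟩ := (isCompl_toDerivedCompletion I _).exists_iso (isCompl_single I n M)
  haveI : Subsingleton ((HF A i).obj ((singleFunctor (ModuleCat.{u} A) n).obj ((Lam I).obj M))) := by
    refine ModuleCat.subsingleton_of_isZero ?_
    rcases lt_or_gt_of_ne hni with h | h
    · exact isZero_of_isGE _ n i h
    · exact isZero_of_isLE _ n i h
  exact ((HF A i).mapIso e).toLinearEquiv.toEquiv.subsingleton

local notation "t₀" => DerivedCategory.TStructure.t (C := ModuleCat A)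

theorem exists_single (n : ℤ) (K : Dual.D A) (hK : Finh K) [K.IsGE n] [K.IsLE n] :
    ∃ (M : ModuleCat.{u} A) (_ : Module.Finite A M), Nonempty (K ≅ (singleFunctor (ModuleCat.{u} A) n).obj M) := by
  obtain ⟨M, ⟨e⟩⟩ := exists_iso_singleFunctor_obj_of_isGE_of_isLE K n
  haveI := hK n
  exact ⟨M, Module.Finite.equiv ((HF A n).mapIso e ≪≫
    (singleFunctorCompHomologyFunctorIso (ModuleCat.{u} A) n).app M).toLinearEquiv, ⟨e⟩⟩

/-- Completion does not create cohomology. -/
theorem vanish (K : Dual.D A) (hK : Finh K) (n : ℤ) (h : Subsingleton (Dual.HD A K n)) :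
    Subsingleton (Dual.HD A (cp I K) n) := by
  obtain ⟨s, hs⟩ := (IsNoetherian.noetherian I : I.FG)
  suffices H : ∀ (k : ℕ) (K : Dual.D A), Finh K → (∀ m, n ≤ m → m ≤ n + s.card → (m = n ∨ n + k < m) →
      Subsingleton (Dual.HD A K m)) → Subsingleton (Dual.HD A (cp I K) n) by
    refine H s.card K hK fun m h1 h2 h3 => ?_
    obtain rfl : m = n := by omega
    exact h
  intro k
  induction k with
  | zero =>
    intro K _ h
    exact (isCompl_toDerivedCompletion I K).subsingleton_hd s hs n fun m h1 h2 =>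
      h m h1 h2 (by omega)
  | succ k ih =>
    intro K hK h
    obtain ⟨j, hj⟩ : ∃ j : ℤ, j = n + k + 1 := ⟨_, rfl⟩
    refine subsingleton_mid I _ ((t₀).triangleLTGE_distinguished (j + 1) K) n ?_ ?_
    · refine subsingleton_mid I _ ((t₀).triangleLTGE_distinguished j (((t₀).truncLT (j + 1)).obj K)) n ?_ ?_
      · refine ih _ (finh_LT j (finh_LT (j + 1) hK)) fun m h1 h2 h3 => ?_
        by_cases hm : j ≤ m
        · exact zero_LT _ j m hm
        · exact sub_LT _ j m (sub_LT _ (j + 1) m (h m h1 h2 (by omega)))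
      · haveI hL : ((((t₀).truncLT (j + 1)).obj K)).IsLE j := (t₀).isLE_truncLT_obj _ _ _ (by omega)
        haveI : (((t₀).truncGE j).obj (((t₀).truncLT (j + 1)).obj K)).IsLE j := inferInstance
        obtain ⟨M, _, ⟨e⟩⟩ := exists_single j _ (finh_GE j (finh_LT (j + 1) hK))
        haveI : Subsingleton ((HF A n).obj ((DRing.IsDerivedComplete I).ι.obj
            ((DRing.derivedCompletion I).obj ((singleFunctor (ModuleCat.{u} A) j).obj M)))) :=
          subsingleton_cp_single I (show n ≠ j by omega) M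
        exact ((HF A n).mapIso ((ObjectProperty.ι _).mapIso
          ((DRing.derivedCompletion I).mapIso e))).toLinearEquiv.toEquiv.subsingleton
    · refine ih _ (finh_GE (j + 1) hK) fun m h1 h2 h3 => ?_
      by_cases hm : m < j + 1
      · exact zero_GE _ (j + 1) m hm
      · exact sub_GE _ (j + 1) m (h m h1 h2 (by omega))

/-- Cohomology of the completion is the adic completion of cohomology. -/
def Good (n : ℤ) (K : Dual.D A) : Prop :=
  ∃ e : (HF A n).obj (cp I K) ≅ (Lam I).obj ((HF A n).obj K),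
    (HF A n).map (DRing.toDerivedCompletion I K) ≫ e.hom = (ofN I).app _

theorem cm_comm {K L : Dual.D A} (φ : K ⟶ L) :
    DRing.toDerivedCompletion I K ≫ cm I φ = φ ≫ DRing.toDerivedCompletion I L :=
  ((DRing.derivedCompletionAdj I).unit.naturality φ).symm

theorem Good.pullback {n : ℤ} {K L : Dual.D A} (φ : K ⟶ L) [IsIso ((HF A n).map φ)]
    [IsIso ((HF A n).map (cm I φ))] (h : Good I n L) : Good I n K := by
  obtain ⟨e, he⟩ := h
  refine ⟨asIso ((HF A n).map (cm I φ)) ≪≫ e ≪≫ (Lam I).mapIso (asIso ((HF A n).map φ)).symm, ?_⟩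
  simp only [Iso.trans_hom, asIso_hom, Functor.mapIso_hom, Iso.symm_hom, asIso_inv]
  rw [← Functor.map_comp_assoc, cm_comm, Functor.map_comp_assoc, reassoc_of% he]
  have hn : (HF A n).map φ ≫ (ofN I).app ((HF A n).obj L) =
      (ofN I).app ((HF A n).obj K) ≫ (Lam I).map ((HF A n).map φ) := (ofN I).naturality _
  rw [reassoc_of% hn, ← Functor.map_comp, IsIso.hom_inv_id]
  erw [(Lam I).map_id, Category.comp_id]

theorem Good.pushforward {n : ℤ} {K L : Dual.D A} (φ : K ⟶ L) [IsIso ((HF A n).map φ)]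
    [IsIso ((HF A n).map (cm I φ))] (h : Good I n K) : Good I n L := by
  obtain ⟨e, he⟩ := h
  refine ⟨(asIso ((HF A n).map (cm I φ))).symm ≪≫ e ≪≫ (Lam I).mapIso (asIso ((HF A n).map φ)), ?_⟩
  rw [← cancel_epi ((HF A n).map φ)]
  simp only [Iso.trans_hom, asIso_hom, Functor.mapIso_hom, Iso.symm_hom, asIso_inv]
  rw [← Functor.map_comp_assoc, ← cm_comm, Functor.map_comp_assoc, IsIso.hom_inv_id_assoc, reassoc_of% he]
  exact ((ofN I).naturality _).symm

theorem good_single (n : ℤ) (M : ModuleCat.{u} A) [Module.Finite A M] :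
    Good I n ((singleFunctor (ModuleCat.{u} A) n).obj M) := by
  obtain ⟨e₀, he⟩ := (isCompl_toDerivedCompletion I _).exists_iso (isCompl_single I n M)
  let σ := singleFunctorCompHomologyFunctorIso (ModuleCat.{u} A) n
  refine ⟨(HF A n).mapIso e₀ ≪≫ σ.app _ ≪≫ (Lam I).mapIso (σ.app M).symm, ?_⟩
  simp only [Iso.trans_hom, Functor.mapIso_hom, Iso.app_hom, Iso.symm_hom, Iso.app_inv]
  rw [← Functor.map_comp_assoc]
  erw [he]
  have h1 := σ.hom.naturality ((ofN I).app M)
  dsimp at h1
  rw [reassoc_of% h1]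
  have h2 := (ofN I).naturality (σ.hom.app M)
  dsimp at h2
  erw [reassoc_of% h2]
  rw [← Functor.map_comp, Iso.hom_inv_id_app]
  erw [(Lam I).map_id, Category.comp_id]

theorem good (K : Dual.D A) (hK : Finh K) (n : ℤ) : Good I n K := by
  let K₁ := ((t₀).truncLT (n + 1)).obj K
  have hT₁ := (t₀).triangleLTGE_distinguished (n + 1) K
  have hT₂ := rot_of_distTriang _ ((t₀).triangleLTGE_distinguished n K₁)
  have hι := epi_of_cone hT₁ n (zero_GE K (n + 1) n (by omega))
  haveI : IsIso ((HF A n).map (((t₀).truncLTι (n + 1)).app K)) := by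
    have := mono_homology_truncLTι K (n + 1) n
    have : Epi ((HF A n).map (((t₀).truncLTι (n + 1)).app K)) := hι
    exact isIso_of_mono_of_epi _
  haveI : IsIso ((HF A n).map (((t₀).truncGEπ n).app K₁)) := by
    have := epi_homology_truncGEπ K₁ n n
    have : Mono ((HF A n).map (((t₀).truncGEπ n).app K₁)) :=
      (HomologySequence.mono_homologyMap_mor₂_iff _ ((t₀).triangleLTGE_distinguished n K₁) n).2
        ((@ModuleCat.isZero_of_subsingleton _ _ _ (zero_LT K₁ n n le_rfl)).eq_of_src _ _)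
    exact isIso_of_mono_of_epi _
  haveI : IsIso ((HF A n).map (cm I (((t₀).truncLTι (n + 1)).app K))) :=
    isIso_cm I _ hT₁ n (vanish I _ (finh_GE _ hK) _ (zero_GE _ _ _ (by omega)))
      (vanish I _ (finh_GE _ hK) _ (zero_GE _ _ _ (by omega)))
  haveI : IsIso ((HF A n).map (cm I (((t₀).truncGEπ n).app K₁))) :=
    isIso_cm I _ hT₂ n
      (vanish I _ (finh_shift (finh_LT n (finh_LT _ hK)) 1) _ (sub_shift _ 1 (zero_LT _ _ _ (by omega))))
      (vanish I _ (finh_shift (finh_LT n (finh_LT _ hK)) 1) _ (sub_shift _ 1 (zero_LT _ _ _ (by omega))))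
  haveI : K₁.IsLE n := (t₀).isLE_truncLT_obj _ _ _ (by omega)
  haveI : (((t₀).truncGE n).obj K₁).IsLE n := inferInstance
  obtain ⟨M, _, ⟨e⟩⟩ := exists_single n _ (finh_GE n (finh_LT (n + 1) hK))
  haveI : IsIso (cm I e.hom) := inferInstanceAs (IsIso ((ObjectProperty.ι _).map ((DRing.derivedCompletion I).map e.hom)))
  exact Good.pushforward I (((t₀).truncLTι (n + 1)).app K)
    (Good.pullback I (((t₀).truncGEπ n).app K₁) (Good.pullback I e.hom (good_single I n M)))

end Groth.Agent.CohDer1.ComplFin
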