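import Groth.Agent.CohDer1.ComplFin.Main
import Groth.Agent.DCat.LTensorModule
import Groth.Agent.CAlgH3.RGam.CechExtend
import Mathlib.Algebra.Homology.HomotopyCofiber
import Mathlib.RingTheory.Flat.Basic

/-!
Derived completion commutes with `⊗^L M` for bounded above objects and finite modules `M`: dévissage on `M`.
-/

set_option autoImplicit false
set_option backward.isDefEq.respectTransparency false
set_option backward.defeqAttrib.useBackward true
set_option linter.style.haveILetI false

universe u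

open CategoryTheory CategoryTheory.Limits CategoryTheory.Pretriangulated MonoidalCategory

attribute [local instance] HasDerivedCategory.standard

namespace Groth.Agent.CohDer1.ComplFin

open Groth.Agent.DCat Groth.Agent.DCat.DC Groth.Agent.CAlgH3.RGam

variable {A : Type u} [CommRing A]

/-- A half-exact vanishing predicate. -/
structure ZPred (Z : Dual.D A → ℤ → Prop) : Prop where
  mid : ∀ T : Triangle (Dual.D A), T ∈ distTriang _ → ∀ n, Z T.obj₁ n → Z T.obj₃ n → Z T.obj₂ n
  third : ∀ T : Triangle (Dual.D A), T ∈ distTriang _ → ∀ n, Z T.obj₂ n → Z T.obj₁ (n + 1) → Z T.obj₃ n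
  zero : ∀ X : Dual.D A, IsZero X → ∀ n, Z X n
  iso : ∀ {X Y : Dual.D A}, (X ≅ Y) → ∀ n, Z X n → Z Y n

/-- `C ⊗ -` on complexes. -/
noncomputable def tF (C : DRing.Cx A) : ModuleCat.{u} A ⥤ DRing.Cx A where
  obj M := DRing.tensorCx C M
  map g := (NatTrans.mapHomologicalComplex ((tensoringRight (ModuleCat.{u} A)).map g) (ComplexShape.up ℤ)).app C
  map_id M := by
    ext n : 1
    simp
    rfl
  map_comp g h := by
    ext n : 1
    simp

instance (C : DRing.Cx A) : (tF C).PreservesZeroMorphisms where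
  map_zero M N := by
    ext n : 1
    show C.X n ◁ (0 : M ⟶ N) = 0
    simp

theorem shortExact_tF (C : DRing.Cx A) (hC : DRing.TermwiseFlat C) {S : ShortComplex (ModuleCat.{u} A)}
    (hS : S.ShortExact) : (S.map (tF C)).ShortExact := by
  refine HomologicalComplex.shortExact_of_degreewise_shortExact _ fun n => ?_
  haveI := hC n
  exact
    { exact := (ShortComplex.ShortExact.moduleCat_exact_iff_function_exact _).2 (Module.Flat.lTensor_exact (C.X n)
        ((ShortComplex.ShortExact.moduleCat_exact_iff_function_exact _).1 hS.exact))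
      mono_f := (ModuleCat.mono_iff_injective _).2 (Module.Flat.lTensor_preserves_injective_linearMap _
        ((ModuleCat.mono_iff_injective _).1 hS.mono_f))
      epi_g := (ModuleCat.epi_iff_surjective _).2 (LinearMap.lTensor_surjective _
        ((ModuleCat.epi_iff_surjective _).1 hS.epi_g)) }

variable {Z : Dual.D A → ℤ → Prop} (hZ : ZPred Z)

include hZ in
theorem z_third (C : DRing.Cx A) (hC : DRing.TermwiseFlat C) {S : ShortComplex (ModuleCat.{u} A)}
    (hS : S.ShortExact) (n : ℤ) (h2 : Z (DRing.toD (DRing.tensorCx C S.X₂)) n)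
    (h1 : Z (DRing.toD (DRing.tensorCx C S.X₁)) (n + 1)) : Z (DRing.toD (DRing.tensorCx C S.X₃)) n :=
  hZ.third _ (DerivedCategory.triangleOfSES_distinguished (shortExact_tF C hC hS)) n h2 h1

include hZ in
theorem z_mid (C : DRing.Cx A) (hC : DRing.TermwiseFlat C) {S : ShortComplex (ModuleCat.{u} A)}
    (hS : S.ShortExact) (n : ℤ) (h1 : Z (DRing.toD (DRing.tensorCx C S.X₁)) n)
    (h3 : Z (DRing.toD (DRing.tensorCx C S.X₃)) n) : Z (DRing.toD (DRing.tensorCx C S.X₂)) n :=
  hZ.mid _ (DerivedCategory.triangleOfSES_distinguished (shortExact_tF C hC hS)) n h1 h3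

/-- The short exact sequence `A → A^(m+1) → A^m`. -/
noncomputable def splitSES (A : Type u) [CommRing A] (m : ℕ) : ShortComplex (ModuleCat.{u} A) :=
  ShortComplex.mk (X₁ := ModuleCat.of A A) (X₂ := ModuleCat.of A (Fin (m + 1) → A)) (X₃ := ModuleCat.of A (Fin m → A))
    (ModuleCat.ofHom (LinearMap.single A (fun _ => A) 0)) (ModuleCat.ofHom (LinearMap.funLeft A A Fin.succ))
    (ModuleCat.hom_ext (LinearMap.ext fun a => funext fun j => by
      show (Pi.single (M := fun _ => A) 0 (show A from a)) (Fin.succ j) = 0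
      exact Pi.single_eq_of_ne (M := fun _ => A) (Fin.succ_ne_zero j) (show A from a)))

theorem shortExact_split (m : ℕ) : (splitSES A m).ShortExact where
  exact := (ShortComplex.moduleCat_exact_iff _).2 fun x hx => by
    change Fin (m + 1) → A at x
    change (fun j : Fin m => x j.succ) = (0 : Fin m → A) at hx
    refine ⟨x 0, ?_⟩
    show Pi.single (M := fun _ => A) 0 (x 0) = x
    funext j
    rcases Fin.eq_zero_or_eq_succ j with rfl | ⟨i, rfl⟩
    · exact Pi.single_eq_same (M := fun _ => A) _ _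
    · exact (Pi.single_eq_of_ne (M := fun _ => A) (Fin.succ_ne_zero i) _).trans (congrFun hx i).symm
  mono_f := (ModuleCat.mono_iff_injective _).2 (fun (a b : A) h => Pi.single_injective (M := fun _ => A) 0 h)
  epi_g := (ModuleCat.epi_iff_surjective _).2 (fun (y : Fin m → A) =>
    LinearMap.funLeft_surjective_of_injective A A _ (Fin.succ_injective m) y)

include hZ in
theorem z_free (C : DRing.Cx A) (hC : DRing.TermwiseFlat C) (n : ℤ) (h : Z (DRing.toD C) n) :
    ∀ m : ℕ, Z (DRing.toD (DRing.tensorCx C (ModuleCat.of A (Fin m → A)))) n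
  | 0 => hZ.zero _ (by
      refine Functor.map_isZero _ ?_
      haveI : ∀ i, Subsingleton ((DRing.tensorCx C (ModuleCat.of A (Fin 0 → A))).X i) := fun i =>
        inferInstanceAs (Subsingleton (TensorProduct A (C.X i) (Fin 0 → A)))
      rw [IsZero.iff_id_eq_zero]
      ext i : 1
      exact (ModuleCat.isZero_of_subsingleton _).eq_of_src _ _) n
  | m + 1 => by
    refine z_mid hZ C hC (shortExact_split m) n ?_ (by exact z_free C hC n h m)
    exact hZ.iso (DerivedCategory.Q.mapIso (HomologicalComplex.Hom.isoOfComponents (fun i => (ρ_ (C.X i)).symm)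
      (fun p q _ => (rightUnitor_inv_naturality _).symm))) n h

include hZ in
/-- Dévissage in the module. -/
theorem z_finite [IsNoetherianRing A] (C : DRing.Cx A) (hC : DRing.TermwiseFlat C) (c : ℤ)
    (htop : ∀ (M : ModuleCat.{u} A) i, c < i → Z (DRing.toD (DRing.tensorCx C M)) i)
    (hbase : ∀ i, Z (DRing.toD C) i) (M : ModuleCat.{u} A) [Module.Finite A M] (i : ℤ) :
    Z (DRing.toD (DRing.tensorCx C M)) i := by
  suffices H : ∀ (k : ℕ) (i : ℤ), c < i + k → ∀ (M : ModuleCat.{u} A), Module.Finite A M →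
      Z (DRing.toD (DRing.tensorCx C M)) i from H (c - i + 1).toNat i (by omega) M inferInstance
  intro k
  induction k with
  | zero => exact fun i hi M _ => htop M i (by omega)
  | succ k ih =>
    intro i hi M hM
    obtain ⟨m, p, hp⟩ := Module.Finite.exists_fin' A M
    let S : ShortComplex (ModuleCat.{u} A) := ShortComplex.mk (X₁ := ModuleCat.of A (LinearMap.ker p))
      (X₂ := ModuleCat.of A (Fin m → A)) (X₃ := M)
      (ModuleCat.ofHom (LinearMap.ker p).subtype) (ModuleCat.ofHom p) (ModuleCat.hom_ext (LinearMap.ext fun x => x.2))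
    have hS : S.ShortExact :=
      { exact := (ShortComplex.moduleCat_exact_iff _).2 fun x hx => ⟨⟨x, hx⟩, rfl⟩
        mono_f := (ModuleCat.mono_iff_injective _).2 (Submodule.injective_subtype _)
        epi_g := (ModuleCat.epi_iff_surjective _).2 hp }
    exact z_third hZ C hC hS i (z_free hZ C hC i (hbase i) m)
      (ih (i + 1) (by omega) S.X₁ (inferInstanceAs (Module.Finite A (LinearMap.ker p))))

section preds

variable (I : Ideal A)

/-- No maps from the localisations at elements of `I`. -/
def NoAway (X : Dual.D A) (n : ℤ) : Prop := ∀ f ∈ I, ∀ φ : Dual.inD A (Localization.Away f) ⟶ X⟦n⟧, φ = 0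

theorem zPred_noAway : ZPred (NoAway I) where
  mid T hT n h1 h3 f hf φ := by
    obtain ⟨ψ, rfl⟩ := Triangle.coyoneda_exact₂ _ (Triangle.shift_distinguished T hT n) φ (h3 f hf _)
    rw [show ψ = 0 from h1 f hf ψ]
    exact zero_comp
  third T hT n h2 h1 f hf φ := by
    obtain ⟨ψ, rfl⟩ := Triangle.coyoneda_exact₃ _ (Triangle.shift_distinguished T hT n) φ (by
      rw [← cancel_mono ((shiftFunctorAdd' (Dual.D A) n 1 (n + 1) rfl).inv.app T.obj₁), zero_comp]
      exact h1 f hf _)
    rw [show ψ = 0 from h2 f hf ψ]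
    exact zero_comp
  zero X hX n f hf φ := (Functor.map_isZero (shiftFunctor (Dual.D A) n) hX).eq_of_tgt _ _
  iso e n h f hf φ := by
    rw [← cancel_mono ((e.inv)⟦n⟧'), zero_comp]
    exact h f hf _

theorem isDerivedComplete_of_noAway {X : Dual.D A} (h : ∀ n, NoAway I X n) : DRing.IsDerivedComplete I X :=
  fun f hf n => subsingleton_of_forall_eq 0 (h n f hf)

theorem noAway_of_isDerivedComplete {X : Dual.D A} (h : DRing.IsDerivedComplete I X) (n : ℤ) : NoAway I X n :=
  fun f hf _ => @Subsingleton.elim _ (h f hf n) _ _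

theorem noAway_top {X : Dual.D A} {b : ℤ} (hX : ∀ i, b < i → Subsingleton (Dual.HD A X i)) (n : ℤ)
    (hn : b + 1 < n) : NoAway I X n := by
  intro f _ φ
  have h0 : ∀ m, b < m → ∀ ψ : FD A ⟶ X⟦m⟧, ψ = 0 := fun m hm ψ => (bijective_seqOf X m).1 (funext fun k =>
    @Subsingleton.elim _ (hX m hm) _ _)
  let T := (telSC_shortExact f).singleTriangle
  have hT : T ∈ distTriang _ := (telSC_shortExact f).singleTriangle_distinguished
  obtain ⟨ψ, hψ⟩ := Triangle.yoneda_exact₃ T hT φ (h0 n (by omega) _)
  obtain ⟨ψ', hψ'⟩ := (shiftFunctor (Dual.D A) (1 : ℤ)).map_surjective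
    (ψ ≫ (shiftFunctorAdd' (Dual.D A) (n - 1) 1 n (by omega)).hom.app X)
  rw [show ψ' = 0 from h0 (n - 1) (by omega) ψ', Functor.map_zero] at hψ'
  have : ψ = 0 := (cancel_mono ((shiftFunctorAdd' (Dual.D A) (n - 1) 1 n (by omega)).hom.app X)).1
    (hψ'.symm.trans zero_comp.symm)
  rw [hψ, this, comp_zero]

variable [DRing.HasDerivedCompletion I]

theorem zPred_cp : ZPred (fun (X : Dual.D A) n => Subsingleton (Dual.HD A (cp I X) n)) where
  mid T hT n h1 h3 := subsingleton_mid I T hT n h1 h3
  third T hT n h2 h1 := by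
    obtain ⟨W, v, w, hW, ⟨e⟩⟩ := exists_cone_iso I T hT
    haveI : Subsingleton ((HF A n).obj W) := ModuleCat.subsingleton_of_isZero
      ((DerivedCategory.HomologySequence.exact₃ _ hW n (n + 1) rfl).isZero_of_both_zeros
        ((@ModuleCat.isZero_of_subsingleton _ _ ((HF A n).obj (cp I T.obj₂)) h2).eq_of_src _ _)
        ((@ModuleCat.isZero_of_subsingleton _ _ ((HF A (n + 1)).obj (cp I T.obj₁)) h1).eq_of_tgt _ _))
    exact ((HF A n).mapIso e).toLinearEquiv.toEquiv.subsingleton
  zero X hX n := ModuleCat.subsingleton_of_isZero ((HF A n).map_isZero ((ObjectProperty.ι _).map_isZero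
    ((DRing.derivedCompletion I).map_isZero hX)))
  iso e n h :=
    haveI : Subsingleton ((HF A n).obj ((DRing.IsDerivedComplete I).ι.obj ((DRing.derivedCompletion I).obj _))) := h
    ((HF A n).mapIso ((ObjectProperty.ι _).mapIso ((DRing.derivedCompletion I).mapIso e))).toLinearEquiv.symm.toEquiv.subsingleton

end preds

theorem subsingleton_of_vanishesAbove {C : DRing.Cx A} {b : ℤ} (hb : DRing.VanishesAbove C b) (M : ModuleCat.{u} A)
    (i : ℤ) (hi : b < i) : Subsingleton (Dual.HD A (DRing.toD (DRing.tensorCx C M)) i) := by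
  rw [subsingleton_HD_iff, isZero_homology_toD_iff, HomologicalComplex.exactAt_iff]
  exact ShortComplex.exact_of_isZero_X₂ _ ((tensorRight M).map_isZero (hb i hi))

theorem ltensorIso_natural (M : ModuleCat.{u} A) [DRing.HasLTensor A M] {P Q : DRing.Cx A}
    (hP : IsKFlatFor (modT A) P) (hQ : IsKFlatFor (modT A) Q) (φ : P ⟶ Q) :
    (DRing.LTensor A M).map (DerivedCategory.Q.map φ) ≫ (ltensorIso M hQ).hom =
      (ltensorIso M hP).hom ≫
        DerivedCategory.Q.map (((tensorRight M).mapHomologicalComplex (ComplexShape.up ℤ)).map φ) := by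
  simp only [ltensorIso, Iso.trans_hom, Functor.mapIso_hom, Iso.symm_hom, Iso.app_inv, asIso_hom, Iso.app_hom,
    Category.assoc]
  erw [← Functor.map_comp_assoc]
  erw [(DerivedCategory.quotientCompQhIso (ModuleCat.{u} A)).inv.naturality φ]
  erw [Functor.map_comp_assoc]
  congr 1
  have hn := ((DRing.tensorKh A M).totalLeftDerivedCounit DerivedCategory.Qh
    (HomotopyCategory.quasiIso (ModuleCat.{u} A) (ComplexShape.up ℤ))).naturality
      ((HomotopyCategory.quotient (ModuleCat.{u} A) (ComplexShape.up ℤ)).map φ)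
  have hm := (DerivedCategory.quotientCompQhIso (ModuleCat.{u} A)).hom.naturality
    (((tensorRight M).mapHomologicalComplex (ComplexShape.up ℤ)).map φ)
  erw [← Category.assoc, hn, Category.assoc]
  congr 1

variable [IsNoetherianRing A] (I : Ideal A) [DRing.HasDerivedCompletion I]

theorem isCompl_ltensor (M : Type u) [AddCommGroup M] [Module A M] [Module.Finite A M]
    [DRing.HasLTensor A (ModuleCat.of A M)] (K : Dual.D A) (b : ℤ)
    (hK : ∀ i : ℤ, b < i → Subsingleton (Dual.HD A K i)) :
    IsCompl I ((DRing.LTensor A (ModuleCat.of A M)).map (DRing.toDerivedCompletion I K)) := by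
  obtain ⟨s, hs⟩ := (IsNoetherian.noetherian I : I.FG)
  let MM := ModuleCat.of A M
  let q := DRing.toDerivedCompletion I K
  have hq := isCompl_toDerivedCompletion I K
  have hKc : ∀ i : ℤ, b < i → Subsingleton (Dual.HD A (cp I K) i) := fun i hi =>
    hq.subsingleton_hd s hs i fun m h1 _ => hK m (by omega)
  obtain ⟨Q, hQ, hQf, hQb, ⟨eQ⟩⟩ := exists_flat_rep (b := b) (K := cp I K)
    fun i hi => (subsingleton_HD_iff _ i).1 (hKc i hi)
  obtain ⟨X', σ, hσ, g, hg⟩ :=
    DerivedCategory.right_fac ((DerivedCategory.Q.objObjPreimageIso K).hom ≫ q ≫ eQ.inv)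
  haveI := hσ
  let eX : DRing.toD X' ≅ K := asIso (DerivedCategory.Q.map σ) ≪≫ DerivedCategory.Q.objObjPreimageIso K
  haveI : X'.IsLE b := by
    rw [CochainComplex.isLE_iff]
    intro i hi
    rw [← isZero_homology_toD_iff]
    exact ((subsingleton_HD_iff _ i).1 (hK i hi)).of_iso ((HF A i).mapIso eX)
  obtain ⟨P, d, hP, hPf, hd, hPb⟩ := exists_kflat_le (X'.truncLE b) b
    (fun n hn => CochainComplex.isZero_of_isStrictlyLE _ b n hn)
  haveI := hd
  let φ : P ⟶ Q := (d ≫ X'.ιTruncLE b) ≫ g
  let eP : DRing.toD P ≅ K :=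
    asIso (DerivedCategory.Q.map d) ≪≫ asIso (DerivedCategory.Q.map (X'.ιTruncLE b)) ≪≫ eX
  have comm : DerivedCategory.Q.map φ ≫ eQ.hom = eP.hom ≫ q := by
    have hg' : DerivedCategory.Q.map g ≫ eQ.hom =
        DerivedCategory.Q.map σ ≫ (DerivedCategory.Q.objObjPreimageIso K).hom ≫ q := by
      rw [← cancel_epi (inv (DerivedCategory.Q.map σ)), IsIso.inv_hom_id_assoc, ← Category.assoc, ← hg,
        Category.assoc, Category.assoc, eQ.inv_hom_id, Category.comp_id]
    simp only [φ, eP, eX, Functor.map_comp, Iso.trans_hom, asIso_hom, Category.assoc, hg']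
  -- completeness of the target
  let C := CochainComplex.mappingCone φ
  have hCf : DRing.TermwiseFlat C := fun n =>
    haveI := hPf (n + 1)
    haveI := hQf n
    haveI : Module.Flat A (ModuleCat.of A (P.X (n + 1) × Q.X n)) := Groth.Agent.CAlgH3.RGam.flat_prod (P.X (n + 1)) (Q.X n)
    Module.Flat.of_linearEquiv ((HomologicalComplex.homotopyCofiber.XIsoBiprod φ n (n + 1) rfl) ≪≫
      ModuleCat.biprodIsoProd _ _).toLinearEquiv
  have hCb : DRing.VanishesAbove C b := fun n hn =>
    IsZero.of_iso ((biprod_isZero_iff _ _).2 ⟨hPb (n + 1) (by omega), hQb n hn⟩)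
      (HomologicalComplex.homotopyCofiber.XIsoBiprod φ n (n + 1) rfl)
  let G := (tensorRight MM).mapHomologicalComplex (ComplexShape.up ℤ)
  have hY : DRing.IsDerivedComplete I (DRing.toD (DRing.tensorCx Q MM)) := by
    refine isDerivedComplete_of_noAway I fun n => z_finite (zPred_noAway I) Q hQf (b + 1)
      (fun M' i hi => noAway_top I (subsingleton_of_vanishesAbove hQb M') i hi) (fun i => ?_) MM n
    exact noAway_of_isDerivedComplete I (isDerivedComplete_of_iso eQ.symm hq.1) i
  -- the cone has no completion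
  have hT := DerivedCategory.mappingCone_triangle_distinguished φ
  have hC0 : ∀ i, Subsingleton (Dual.HD A (cp I (DRing.toD C)) i) := by
    obtain ⟨W, v, w, hW, ⟨e⟩⟩ := exists_cone_iso I _ hT
    haveI : IsIso (cm I q) := by
      haveI : IsIso (DRing.toDerivedCompletion I (cp I K)) := by
        obtain ⟨e', he'⟩ := (isCompl_toDerivedCompletion I (cp I K)).exists_iso
          (q' := 𝟙 (cp I K)) ⟨hq.1, fun L _ => by simp only [Category.id_comp]; exact Function.bijective_id⟩
        rw [← Iso.eq_comp_inv, Category.id_comp] at he'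
        rw [he']; infer_instance
      have h2 : q ≫ cm I q = q ≫ DRing.toDerivedCompletion I (cp I K) := cm_comm I q
      rw [(hq.2 _ (isCompl_toDerivedCompletion I (cp I K)).1).1 h2]
      infer_instance
    have : IsIso (cm I (DerivedCategory.Q.map φ)) := by
      have h1 : DerivedCategory.Q.map φ = eP.hom ≫ q ≫ eQ.inv := by rw [← reassoc_of% comm]; simp
      have hm : ∀ {X Y : Dual.D A} (a : X ⟶ Y), IsIso a → IsIso (cm I a) := fun a _ =>
        inferInstanceAs (IsIso ((ObjectProperty.ι _).map ((DRing.derivedCompletion I).map a)))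
      haveI := hm eP.hom inferInstance
      haveI := hm eQ.inv inferInstance
      rw [h1]
      show IsIso ((ObjectProperty.ι _).map ((DRing.derivedCompletion I).map (eP.hom ≫ q ≫ eQ.inv)))
      rw [Functor.map_comp, Functor.map_comp, Functor.map_comp, Functor.map_comp]
      exact IsIso.comp_isIso (f := cm I eP.hom) (h := cm I q ≫ cm I eQ.inv)
    have hz : IsZero W := (Triangle.isZero₃_iff_isIso₁ _ hW).2 this
    intro i
    exact ModuleCat.subsingleton_of_isZero ((HF A i).map_isZero (hz.of_iso e))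
  have hCM : ∀ i, Subsingleton (Dual.HD A (cp I (DRing.toD (DRing.tensorCx C MM))) i) :=
    fun i => z_finite (zPred_cp I) C hCf b
      (fun M' i hi => (isCompl_toDerivedCompletion I _).subsingleton_hd s hs i fun m h1 _ =>
        subsingleton_of_vanishesAbove hCb M' m (by omega)) hC0 MM i
  -- conclusion
  let T' := DerivedCategory.Q.mapTriangle.obj (CochainComplex.mappingCone.triangle (G.map φ))
  have hT' : T' ∈ distTriang (Dual.D A) := DerivedCategory.mappingCone_triangle_distinguished _
  let eC : DRing.toD (DRing.tensorCx C MM) ≅ T'.obj₃ :=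
    DerivedCategory.Q.mapIso (CochainComplex.mappingCone.mapHomologicalComplexIso φ (tensorRight MM))
  have hc3 : ∀ i, Subsingleton (Dual.HD A (cp I T'.obj₃) i) := fun i => (zPred_cp I).iso eC i (hCM i)
  have hiso : IsIso (cm I T'.mor₁) := (DerivedCategory.isIso_iff (ModuleCat.{u} A) _).2 fun i =>
    isIso_cm I T' hT' i (hc3 _) (hc3 _)
  have hG : IsCompl I (DerivedCategory.Q.map (G.map φ)) := by
    refine ⟨hY, ?_⟩
    haveI : IsIso (DRing.toDerivedCompletion I (DRing.toD (DRing.tensorCx Q MM))) := by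
      obtain ⟨e', he'⟩ := (isCompl_toDerivedCompletion I (DRing.toD (DRing.tensorCx Q MM))).exists_iso
        (q' := 𝟙 _) ⟨hY, fun L _ => by simp only [Category.id_comp]; exact Function.bijective_id⟩
      rw [← Iso.eq_comp_inv, Category.id_comp] at he'
      rw [he']; infer_instance
    refine CIso.of_comp_right (cIso_of_isIso (DRing.toDerivedCompletion I (DRing.toD (DRing.tensorCx Q MM)))) ?_
    show CIso I (T'.mor₁ ≫ DRing.toDerivedCompletion I T'.obj₂)
    rw [← cm_comm I T'.mor₁]
    exact CIso.comp (fun L hL => (isCompl_toDerivedCompletion I T'.obj₁).2 L hL) (cIso_of_isIso _)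
  have hsq : (DRing.LTensor A MM).map q =
      ((DRing.LTensor A MM).mapIso eP).inv ≫ (ltensorIso MM hP).hom ≫ DerivedCategory.Q.map (G.map φ) ≫
        (ltensorIso MM hQ).inv ≫ ((DRing.LTensor A MM).mapIso eQ).hom := by
    rw [← reassoc_of% (ltensorIso_natural MM hP hQ φ), Iso.hom_inv_id_assoc]
    simp only [Functor.mapIso_hom, Functor.mapIso_inv, ← Functor.map_comp, comm, Iso.inv_hom_id_assoc]
  refine ⟨isDerivedComplete_of_iso ((ltensorIso MM hQ).symm ≪≫ (DRing.LTensor A MM).mapIso eQ) hY, ?_⟩
  rw [hsq]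
  exact (cIso_of_isIso _).comp ((cIso_of_isIso _).comp
    (CIso.comp (fun L hL => hG.2 L hL) ((cIso_of_isIso _).comp (cIso_of_isIso _))))

end Groth.Agent.CohDer1.ComplFin
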