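import Groth.Agent.CohDer1.ComplFin.Tensor
import Groth.Agent.DCat.LTensorCx

/-!
Derived completion commutes with `⊗^L F` for a bounded above complex `F` of finite free modules and bounded above
objects: dévissage on `F`.
-/

set_option autoImplicit false
set_option backward.isDefEq.respectTransparency false
set_option backward.defeqAttrib.useBackward true
set_option linter.style.haveILetI false

universe u

open CategoryTheory CategoryTheory.Limits CategoryTheory.Pretriangulated MonoidalCategory HomologicalComplex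

attribute [local instance] HasDerivedCategory.standard

namespace Groth.Agent.CohDer1.ComplFin

open Groth.Agent.DCat Groth.Agent.DCat.DC Groth.Agent.CAlgH3.RGam

variable {A : Type u} [CommRing A]

/-- Compatibility of a predicate with shifts. -/
def ZShift (Z : Dual.D A → ℤ → Prop) : Prop := ∀ (X : Dual.D A) (k n : ℤ), Z X (k + n) → Z (X⟦k⟧) n

theorem zShift_noAway (I : Ideal A) : ZShift (NoAway I) := fun X k n h f hf φ => by
  rw [← cancel_mono ((shiftFunctorAdd' (Dual.D A) k n (k + n) rfl).inv.app X), zero_comp]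
  exact h f hf _

theorem zShift_cp (I : Ideal A) [DRing.HasDerivedCompletion I] :
    ZShift (fun (X : Dual.D A) n => Subsingleton (Dual.HD A (cp I X) n)) := fun X k n h => by
  obtain ⟨e, -⟩ := (isCompl_toDerivedCompletion I (X⟦k⟧)).exists_iso
    (q' := (DRing.toDerivedCompletion I X)⟦k⟧')
    ⟨isDerivedComplete_shift (isCompl_toDerivedCompletion I X).1 k,
      fun L hL => (isCompl_toDerivedCompletion I X).bijective_shift k hL⟩
  haveI : Subsingleton ((HF A n).obj ((cp I X)⟦k⟧)) := sub_shift n k h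
  exact ((HF A n).mapIso e).toLinearEquiv.toEquiv.subsingleton

theorem vanishesAbove_tot {C G : DRing.Cx A} {c g : ℤ} (hC : DRing.VanishesAbove C c)
    (hG : DRing.VanishesAbove G g) : DRing.VanishesAbove (tot (modT A) C G) (c + g) := fun n hn => by
  rw [IsZero.iff_id_eq_zero]
  refine mapBifunctor.hom_ext fun p q h => ?_
  have h' : p + q = n := h
  refine IsZero.eq_of_src ?_ _ _
  by_cases hp : c < p
  · exact ((modT A).flip.obj (G.X q)).map_isZero (hC p hp)
  · exact ((modT A).obj (C.X p)).map_isZero (hG q (by omega))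

theorem hd_top {C : DRing.Cx A} {b : ℤ} (hb : DRing.VanishesAbove C b) (i : ℤ) (hi : b < i) :
    Subsingleton (Dual.HD A (DRing.toD C) i) := by
  rw [subsingleton_HD_iff, isZero_homology_toD_iff, HomologicalComplex.exactAt_iff]
  exact ShortComplex.exact_of_isZero_X₂ _ (hb i hi)

theorem split_mono_split {X₁ X₂ X₃ : ModuleCat.{u} A} (f : X₁ ⟶ X₂) (g : X₂ ⟶ X₃) (w : f ≫ g = 0)
    [IsIso f] (h3 : IsZero X₃) : Nonempty (ShortComplex.mk f g w).Splitting :=
  ⟨{ r := inv f
     s := 0
     f_r := IsIso.hom_inv_id f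
     s_g := h3.eq_of_src _ _
     id := by simp }⟩

theorem split_epi_split {X₁ X₂ X₃ : ModuleCat.{u} A} (f : X₁ ⟶ X₂) (g : X₂ ⟶ X₃) (w : f ≫ g = 0)
    [IsIso g] (h1 : IsZero X₁) : Nonempty (ShortComplex.mk f g w).Splitting :=
  ⟨{ r := 0
     s := inv g
     f_r := h1.eq_of_src _ _
     s_g := IsIso.inv_hom_id g
     id := by simp }⟩

variable {Z : Dual.D A → ℤ → Prop}

/-- Dévissage in a bounded above complex of finite modules. -/
theorem z_cx [IsNoetherianRing A] (hZ : ZPred Z) (hs : ZShift Z) (C : DRing.Cx A) (hC : DRing.TermwiseFlat C)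
    (c d : ℤ) (hcC : DRing.VanishesAbove C c)
    (htop : ∀ (X : DRing.Cx A) (x : ℤ), DRing.VanishesAbove X x → ∀ i, x + d < i → Z (DRing.toD X) i)
    (hbase : ∀ i, Z (DRing.toD C) i) (F : DRing.Cx A) (f₀ : ℤ) (hF : DRing.VanishesAbove F f₀)
    (hfin : ∀ n, Module.Finite A (F.X n)) (i : ℤ) : Z (DRing.toD (tot (modT A) C F)) i := by
  have hTd : ∀ {S : ShortComplex (DRing.Cx A)},
      (∀ n, Nonempty ((S.map (HomologicalComplex.eval (ModuleCat.{u} A) (ComplexShape.up ℤ) n)).Splitting)) →
      (S.map ((modT A).map₂CochainComplex.obj C)).ShortExact :=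
    fun hS => shortExact_map_tot (T := modT A) (fun a q => shortExact_map_of_splitting hS a q) C
  obtain ⟨j, hj⟩ : ∃ j : ℤ, j = i - c - d := ⟨_, rfl⟩
  have hbr : ∀ i, Z (DRing.toD (tot (modT A) C (brutal F j))) i := by
    refine bounded_induction (fun K : DRing.Cx A => ∀ i, Z (DRing.toD (tot (modT A) C K)) i)
      (fun X => Module.Finite A X) (fun K hK i => hZ.zero _ (Functor.map_isZero _
        (((modT A).map₂CochainComplex.obj C).map_isZero hK)) i)
      (fun X hX => haveI := ModuleCat.subsingleton_of_isZero hX; inferInstance)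
      (fun X Y e h => haveI := h; Module.Finite.equiv e.toLinearEquiv)
      (fun n X hX i => ?_) (fun S hS h1 h3 i => ?_) j (f₀ + 1 - j).toNat (brutal F j)
      (fun n hn => isZero_brutalX F (by omega)) (fun n hn => ?_) (fun n => ?_)
    · haveI := hX
      obtain ⟨e₀⟩ := exists_tot_single_iso (T := modT A) C X
      let σ := ((CochainComplex.singleFunctors (ModuleCat.{u} A)).shiftIso (-n) n 0 (by omega)).app X
      refine hZ.iso (((DerivedCategory.Q.commShiftIso (-n)).app _).symm ≪≫ DerivedCategory.Q.mapIso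
        (((((modT A).map₂CochainComplex.obj C).commShiftIso (-n)).app _).symm ≪≫
          ((modT A).map₂CochainComplex.obj C).mapIso σ)) i (hs _ (-n) i (hZ.iso (DerivedCategory.Q.mapIso e₀) _ ?_))
      exact z_finite hZ C hC (c + d) (fun M i hi => htop _ c
        (fun p hp => (tensorRight M).map_isZero (hcC p hp)) i hi) hbase X _
    · exact hZ.mid _ (DerivedCategory.triangleOfSES_distinguished (hTd hS)) i (h1 i) (h3 i)
    · by_cases h : j ≤ n
      · haveI := isIso_brutalι F h
        exact (hF n (by omega)).of_iso (asIso (brutalι F j n))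
      · exact isZero_brutalX F h
    · by_cases h : j ≤ n
      · haveI := isIso_brutalι F h
        haveI := hfin n
        exact Module.Finite.equiv (asIso (brutalι F j n)).toLinearEquiv.symm
      · haveI : Subsingleton ((brutal F j).X n) := ModuleCat.subsingleton_of_isZero (isZero_brutalX F h)
        infer_instance
  haveI : Mono (brutalIncl F j) := HomologicalComplex.mono_of_mono_f _ fun n => mono_brutalι F j n
  let π := cokernel.π (brutalIncl F j)
  have hS : (ShortComplex.mk (brutalIncl F j) π (cokernel.condition _)).ShortExact :=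
    { exact := ShortComplex.exact_cokernel _ }
  have hzero : ∀ n, j ≤ n → IsZero ((cokernel (brutalIncl F j)).X n) := fun n hn => by
    haveI : IsIso ((HomologicalComplex.eval (ModuleCat.{u} A) (ComplexShape.up ℤ) n).map (brutalIncl F j)) :=
      isIso_brutalι F hn
    exact IsZero.of_iso (isZero_cokernel_of_epi _)
      (PreservesCokernel.iso (HomologicalComplex.eval (ModuleCat.{u} A) (ComplexShape.up ℤ) n) (brutalIncl F j))
  have hsp : ∀ n, Nonempty (((ShortComplex.mk (brutalIncl F j) π (cokernel.condition _)).map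
      (HomologicalComplex.eval (ModuleCat.{u} A) (ComplexShape.up ℤ) n)).Splitting) := fun n => by
    by_cases h : j ≤ n
    · haveI : IsIso ((brutalIncl F j).f n) := isIso_brutalι F h
      exact @split_mono_split _ _ _ _ _ _ _ _ ‹IsIso ((brutalIncl F j).f n)› (hzero n h)
    · haveI : Mono (π.f n) := (hS.exact.map (HomologicalComplex.eval (ModuleCat.{u} A) (ComplexShape.up ℤ) n)).mono_g
        ((isZero_brutalX F h).eq_of_src _ _)
      haveI : IsIso (π.f n) := isIso_of_mono_of_epi _
      exact @split_epi_split _ _ _ _ _ _ _ _ ‹IsIso (π.f n)› (isZero_brutalX F h)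
  refine hZ.mid _ (DerivedCategory.triangleOfSES_distinguished (hTd hsp)) i (hbr i) ?_
  exact htop _ (c + (j - 1)) (vanishesAbove_tot hcC (fun n hn => hzero n (by omega))) i (by omega)

variable (I : Ideal A) [DRing.HasDerivedCompletion I]

theorem isIso_toDC {X : Dual.D A} (hX : DRing.IsDerivedComplete I X) : IsIso (DRing.toDerivedCompletion I X) := by
  obtain ⟨e', he'⟩ := (isCompl_toDerivedCompletion I X).exists_iso
    (q' := 𝟙 X) ⟨hX, fun L _ => by simp only [Category.id_comp]; exact Function.bijective_id⟩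
  rw [← Iso.eq_comp_inv, Category.id_comp] at he'
  rw [he']; infer_instance

theorem cIso_of_cp_zero [IsNoetherianRing A] {T : Triangle (Dual.D A)} (hT : T ∈ distTriang _)
    (h : ∀ i, Subsingleton (Dual.HD A (cp I T.obj₃) i)) : CIso I T.mor₁ := by
  haveI : IsIso (cm I T.mor₁) := (DerivedCategory.isIso_iff (ModuleCat.{u} A) _).2 fun i =>
    isIso_cm I T hT i (h _) (h _)
  refine CIso.of_comp_right (χ := DRing.toDerivedCompletion I T.obj₂)
    (fun L hL => (isCompl_toDerivedCompletion I T.obj₂).2 L hL) ?_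
  rw [← cm_comm I T.mor₁]
  exact CIso.comp (fun L hL => (isCompl_toDerivedCompletion I T.obj₁).2 L hL) (cIso_of_isIso _)

theorem cp_zero_of_cIso {T : Triangle (Dual.D A)} (hT : T ∈ distTriang _) (h : CIso I T.mor₁) (i : ℤ) :
    Subsingleton (Dual.HD A (cp I T.obj₃) i) := by
  have h0 : DRing.toDerivedCompletion I T.obj₃ = 0 :=
    orth_cone hT h _ (isCompl_toDerivedCompletion I T.obj₃).1 _
  have hz : IsZero (cp I T.obj₃) := (IsZero.iff_id_eq_zero _).2
    (((isCompl_toDerivedCompletion I T.obj₃).2 _ (isCompl_toDerivedCompletion I T.obj₃).1).1 (by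
      show DRing.toDerivedCompletion I T.obj₃ ≫ _ = DRing.toDerivedCompletion I T.obj₃ ≫ _
      rw [h0, zero_comp, zero_comp]))
  exact ModuleCat.subsingleton_of_isZero ((HF A i).map_isZero hz)

omit [DRing.HasDerivedCompletion I] in
theorem flat_cone {P Q : DRing.Cx A} (φ : P ⟶ Q) (hP : DRing.TermwiseFlat P) (hQ : DRing.TermwiseFlat Q) :
    DRing.TermwiseFlat (CochainComplex.mappingCone φ) := fun n =>
  haveI := hP (n + 1)
  haveI := hQ n
  haveI : Module.Flat A (ModuleCat.of A (P.X (n + 1) × Q.X n)) :=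
    Groth.Agent.CAlgH3.RGam.flat_prod (P.X (n + 1)) (Q.X n)
  Module.Flat.of_linearEquiv ((HomologicalComplex.homotopyCofiber.XIsoBiprod φ n (n + 1) rfl) ≪≫
    ModuleCat.biprodIsoProd _ _).toLinearEquiv

variable [IsNoetherianRing A]

theorem isCompl_ltensorCx (F : DRing.Cx A) (c : ℤ) (hFc : DRing.VanishesAbove F c)
    (hFf : DRing.TermwiseFiniteFree F) [DRing.HasLTensorCx A F] (K : Dual.D A) (b : ℤ)
    (hK : ∀ i : ℤ, b < i → Subsingleton (Dual.HD A K i)) :
    IsCompl I ((DRing.LTensorCx A F).map (DRing.toDerivedCompletion I K)) := by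
  obtain ⟨s, hs⟩ := (IsNoetherian.noetherian I : I.FG)
  let q := DRing.toDerivedCompletion I K
  have hq := isCompl_toDerivedCompletion I K
  have hKc : ∀ i : ℤ, b < i → Subsingleton (Dual.HD A (cp I K) i) := fun i hi =>
    hq.subsingleton_hd s hs i fun m h1 _ => hK m (by omega)
  obtain ⟨Q₀, -, hQf, hQb, ⟨eQ₀⟩⟩ := exists_flat_rep (b := b) (K := cp I K)
    fun i hi => (subsingleton_HD_iff _ i).1 (hKc i hi)
  obtain ⟨X', σ, hσ, g, hg⟩ :=
    DerivedCategory.right_fac ((DerivedCategory.Q.objObjPreimageIso K).hom ≫ q ≫ eQ₀.inv)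
  haveI := hσ
  let eX : DRing.toD X' ≅ K := asIso (DerivedCategory.Q.map σ) ≪≫ DerivedCategory.Q.objObjPreimageIso K
  haveI : X'.IsLE b := by
    rw [CochainComplex.isLE_iff]
    intro i hi
    rw [← isZero_homology_toD_iff]
    exact ((subsingleton_HD_iff _ i).1 (hK i hi)).of_iso ((HF A i).mapIso eX)
  obtain ⟨P, d, hP, hPf, hd, hPb⟩ := exists_kflat_le (X'.truncLE b) b
    (fun n hn => CochainComplex.isZero_of_isStrictlyLE _ b n hn)
  haveI := hd
  let φ₀ : P ⟶ Q₀ := (d ≫ X'.ιTruncLE b) ≫ g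
  let eP : DRing.toD P ≅ K :=
    asIso (DerivedCategory.Q.map d) ≪≫ asIso (DerivedCategory.Q.map (X'.ιTruncLE b)) ≪≫ eX
  have comm₀ : DerivedCategory.Q.map φ₀ ≫ eQ₀.hom = eP.hom ≫ q := by
    have hg' : DerivedCategory.Q.map g ≫ eQ₀.hom =
        DerivedCategory.Q.map σ ≫ (DerivedCategory.Q.objObjPreimageIso K).hom ≫ q := by
      rw [← cancel_epi (inv (DerivedCategory.Q.map σ)), IsIso.inv_hom_id_assoc, ← Category.assoc, ← hg,
        Category.assoc, Category.assoc, eQ₀.inv_hom_id, Category.comp_id]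
    simp only [φ₀, eP, eX, Functor.map_comp, Iso.trans_hom, asIso_hom, Category.assoc, hg']
  -- a degreewise split injective representative
  let D₀ := CochainComplex.mappingCone (𝟙 P)
  let Q := Q₀ ⊞ D₀
  let φ : P ⟶ Q := biprod.lift φ₀ (CochainComplex.mappingCone.inr (𝟙 P))
  have hD₀ : IsZero (DerivedCategory.Q.obj D₀) := (Triangle.isZero₃_iff_isIso₁ _
    (DerivedCategory.mappingCone_triangle_distinguished (𝟙 P))).2
      (inferInstanceAs (IsIso (DerivedCategory.Q.map (𝟙 P))))
  haveI : IsIso (DerivedCategory.Q.map (biprod.fst : Q ⟶ Q₀)) := by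
    refine ⟨DerivedCategory.Q.map (biprod.inl : Q₀ ⟶ Q), ?_, by
      rw [← Functor.map_comp, biprod.inl_fst, CategoryTheory.Functor.map_id]⟩
    rw [← Functor.map_comp, ← CategoryTheory.Functor.map_id, ← biprod.total, Functor.map_add,
      Functor.map_comp _ (biprod.snd : Q ⟶ D₀), hD₀.eq_of_tgt (DerivedCategory.Q.map (biprod.snd : Q ⟶ D₀)) 0,
      zero_comp, add_zero]
  let eQ : DRing.toD Q ≅ cp I K := asIso (DerivedCategory.Q.map (biprod.fst : Q ⟶ Q₀)) ≪≫ eQ₀
  have comm : DerivedCategory.Q.map φ ≫ eQ.hom = eP.hom ≫ q := by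
    simp only [eQ, Iso.trans_hom, asIso_hom]
    rw [← Functor.map_comp_assoc, biprod.lift_fst, comm₀]
  haveI : ∀ n, IsSplitMono (φ.f n) := fun n => IsSplitMono.mk' ⟨(biprod.snd : Q ⟶ D₀).f n ≫
      (CochainComplex.mappingCone.snd (𝟙 P)).v n n (add_zero n), by
    rw [← Category.assoc, ← HomologicalComplex.comp_f, biprod.lift_snd]
    simp⟩
  haveI : Mono φ := HomologicalComplex.mono_of_mono_f _ fun n => inferInstance
  let S := ShortComplex.mk φ (cokernel.π φ) (cokernel.condition φ)
  have hS : S.ShortExact := { exact := ShortComplex.exact_cokernel _ }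
  have hsp : ∀ n, Nonempty ((S.map (HomologicalComplex.eval (ModuleCat.{u} A) (ComplexShape.up ℤ) n)).Splitting) :=
    fun n => ⟨ShortComplex.Splitting.ofExactOfRetraction _
      (hS.exact.map (HomologicalComplex.eval (ModuleCat.{u} A) (ComplexShape.up ℤ) n)) (retraction (φ.f n))
      (IsSplitMono.id (φ.f n))
      (inferInstanceAs (Epi ((cokernel.π φ).f n)))⟩
  let ev := fun n => HomologicalComplex.eval (ModuleCat.{u} A) (ComplexShape.up ℤ) n
  have hDf := flat_cone (𝟙 P) hPf hPf
  have hQf' : DRing.TermwiseFlat Q := fun n => by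
    haveI := hQf n
    haveI := hDf n
    haveI : Module.Flat A (ModuleCat.of A (Q₀.X n × D₀.X n)) := Groth.Agent.CAlgH3.RGam.flat_prod (Q₀.X n) (D₀.X n)
    haveI : Module.Flat A (ModuleCat.of A ((ev n).obj Q₀ × (ev n).obj D₀)) :=
      Groth.Agent.CAlgH3.RGam.flat_prod (Q₀.X n) (D₀.X n)
    exact Module.Flat.of_linearEquiv ((ev n).mapBiprod Q₀ D₀ ≪≫ ModuleCat.biprodIsoProd _ _).toLinearEquiv
  have hDb : DRing.VanishesAbove D₀ b := fun n hn =>
    IsZero.of_iso ((biprod_isZero_iff _ _).2 ⟨hPb (n + 1) (by omega), hPb n hn⟩)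
      (HomologicalComplex.homotopyCofiber.XIsoBiprod (𝟙 P) n (n + 1) rfl)
  have hQb' : DRing.VanishesAbove Q b := fun n hn =>
    IsZero.of_iso ((biprod_isZero_iff ((ev n).obj Q₀) ((ev n).obj D₀)).2 ⟨hQb n hn, hDb n hn⟩)
      ((ev n).mapBiprod Q₀ D₀)
  let C := cokernel φ
  have hCf : DRing.TermwiseFlat C := fun n => by
    obtain ⟨sp⟩ := hsp n
    haveI : Module.Flat A (S.map (HomologicalComplex.eval (ModuleCat.{u} A) (ComplexShape.up ℤ) n)).X₂ := hQf' n
    exact Module.Flat.of_retract sp.s.hom (S.g.f n).hom (congrArg ModuleCat.Hom.hom sp.s_g)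
  have hCb : DRing.VanishesAbove C b := fun n hn => by
    obtain ⟨sp⟩ := hsp n
    rw [IsZero.iff_id_eq_zero]
    have e : sp.s ≫ (S.map (ev n)).g = 𝟙 (C.X n) := sp.s_g
    rw [← e, (hQb' n hn).eq_of_tgt sp.s 0, zero_comp]
  -- completeness of the target
  have hY : DRing.IsDerivedComplete I (DRing.toD (tot (modT A) Q F)) :=
    isDerivedComplete_of_noAway I fun n => z_cx (zPred_noAway I) (zShift_noAway I) Q hQf' b 1 hQb'
      (fun X x hx i hi => noAway_top I (hd_top hx) i hi)
      (fun i => noAway_of_isDerivedComplete I (isDerivedComplete_of_iso eQ.symm hq.1) i) F c hFc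
      (fun m => (hFf m).1) n
  -- the cokernel has no completion
  have hC0 : ∀ i, Subsingleton (Dual.HD A (cp I (DRing.toD C)) i) := by
    intro i
    refine cp_zero_of_cIso I (DerivedCategory.triangleOfSES_distinguished hS) ?_ i
    show CIso I (DerivedCategory.Q.map φ)
    rw [show DerivedCategory.Q.map φ = eP.hom ≫ q ≫ eQ.inv from by rw [← reassoc_of% comm]; simp]
    exact (cIso_of_isIso _).comp (CIso.comp (fun L hL => hq.2 L hL) (cIso_of_isIso _))
  have hCM : ∀ i, Subsingleton (Dual.HD A (cp I (DRing.toD (tot (modT A) C F))) i) :=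
    z_cx (zPred_cp I) (zShift_cp I) C hCf b 0 hCb
      (fun X x hx i hi => (isCompl_toDerivedCompletion I _).subsingleton_hd s hs i fun m h1 _ =>
        hd_top hx m (by omega)) hC0 F c hFc (fun m => (hFf m).1)
  -- conclusion
  have hsF := shortExact_map_tot (T := modT A) (fun a q => shortExact_map_of_splitting hsp a q) F
  have hG : CIso I (DerivedCategory.Q.map (totMap₂ (modT A) F φ)) :=
    cIso_of_cp_zero I (DerivedCategory.triangleOfSES_distinguished hsF)
      (fun i => (zPred_cp I).iso (DerivedCategory.Q.mapIso (totSymm C F)) i (hCM i))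
  have hG' : CIso I (DerivedCategory.Q.map (totMap₁ (modT A) φ F)) := by
    refine CIso.of_comp_right (cIso_of_isIso (DerivedCategory.Q.map (totSymm Q F).hom)) ?_
    rw [← Functor.map_comp, show totMap₁ (modT A) φ F ≫ (totSymm Q F).hom =
      (totSymm P F).hom ≫ totMap₂ (modT A) F φ from totSymm_natural φ (𝟙 F), Functor.map_comp]
    exact (cIso_of_isIso _).comp hG
  have hQk : IsKFlatFor (modT A) Q := isKFlatFor_of_vanishesAbove Q b hQb' hQf'
  have hn : (DRing.LTensorCx A F).map (DerivedCategory.Q.map φ) ≫ (ltensorCxIso F hQk).hom =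
      (ltensorCxIso F hP).hom ≫ DerivedCategory.Q.map (totMap₁ (modT A) φ F) :=
    ((DRing.tensorCxQ A F).totalLeftDerivedCounit DerivedCategory.Q
      (HomologicalComplex.quasiIso (ModuleCat.{u} A) (ComplexShape.up ℤ))).naturality φ
  have hsq : (DRing.LTensorCx A F).map q =
      ((DRing.LTensorCx A F).mapIso eP).inv ≫ (ltensorCxIso F hP).hom ≫
        DerivedCategory.Q.map (totMap₁ (modT A) φ F) ≫
        (ltensorCxIso F hQk).inv ≫ ((DRing.LTensorCx A F).mapIso eQ).hom := by
    rw [← reassoc_of% hn, Iso.hom_inv_id_assoc]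
    simp only [Functor.mapIso_hom, Functor.mapIso_inv, ← Functor.map_comp, comm, Iso.inv_hom_id_assoc]
  refine ⟨isDerivedComplete_of_iso ((ltensorCxIso F hQk).symm ≪≫ (DRing.LTensorCx A F).mapIso eQ) hY, ?_⟩
  rw [hsq]
  exact (cIso_of_isIso _).comp ((cIso_of_isIso _).comp (hG'.comp ((cIso_of_isIso _).comp (cIso_of_isIso _))))

end Groth.Agent.CohDer1.ComplFin
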